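import Cfsg.Agent.Helper29.OC2K.Defs
import Cfsg.Agent.Helper29.OC2K.GEOB

set_option autoImplicit false
set_option linter.unusedSectionVars false
set_option linter.unusedVariables false

/-! # OC2K (S5677 route ported to a general form) piece BLK (hedge by helper2) -/

namespace Cfsg.Agent.OC2K

open Matrix Cfsg.Agent.Helper28.Sg Cfsg.Agent.Helper28.Spin Cfsg.Agent.Helper12.OrthGen
  Cfsg.Agent.S2614 Cfsg.Agent.S5683P Cfsg.Agent.Helper28.NDM

variable {F : Type*} [Field F] {t k : ℕ} {ι : Type} [Fintype ι] [DecidableEq ι] {Q : QuadraticForm F (ι → F)} [QHyp Q] {D : Fin t → Submodule F (ι → F)}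

theorem BLK.ndon (hD : HD Q k D) (c : Fin t) : NDon (Q) (D c) := hD.nd c

theorem BLK.three (hD : HD Q k D) (c : Fin t) : 3 ≤ Module.finrank F (D c) := by
  rw [hD.rank c]; exact hD.k3

theorem BLK.hyp [Fintype F] (hD : HD Q k D) (c : Fin t) :
    ∃ e f, e ∈ D c ∧ f ∈ D c ∧ HypPair (Q) e f := by
  obtain ⟨e, f, he, hf, hQe, hQf, hef⟩ :=
    exists_hyp_in (Q) (D c) (BLK.ndon hD c) (BLK.three hD c)
  exact ⟨e, f, he, hf, ⟨hQe, hQf, hef⟩⟩

theorem BLK.partner [Fintype F] (hD : HD Q k D) {c : Fin t} {u : ι → F} (hu : u ∈ D c)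
    (hu0 : u ≠ 0) (hQu : Q u = 0) :
    ∃ f ∈ D c, Q f = 0 ∧ B (Q) u f = 1 := by
  obtain ⟨f, hf, hQf, huf⟩ :=
    Cfsg.Agent.Helper28.PDN.exists_partner_in (Q) (D c) (BLK.ndon hD c).geo u hu hu0 hQu
  exact ⟨f, hf, hQf, huf⟩

/-- a block has a nonsingular vector of any prescribed non-zero norm?? NO - only: some
nonsingular vector -/
theorem BLK.nonsing [Fintype F] (h2 : (2 : F) ≠ 0) (hD : HD Q k D) (c : Fin t) :
    ∃ w ∈ D c, Q w ≠ 0 := by
  obtain ⟨e, f, he, hf, hp⟩ := BLK.hyp hD c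
  have he0 : e ≠ 0 := by
    intro h0
    have := hp.Bef
    rw [h0] at this
    simp [B] at this
  exact GEOB.exists_nonsing h2 (D c) (BLK.ndon hD c) he he0

/-- blocks other than `c` are perpendicular to `D c` -/
theorem BLK.orth' (hD : HD Q k D) {b c : Fin t} (hbc : b ≠ c) {x y : ι → F} (hx : x ∈ D b)
    (hy : y ∈ D c) : B (Q) x y = 0 := hD.orth b c hbc x hx y hy

/-- a non-zero vector lies in at most one block -/
theorem BLK.unique (hD : HD Q k D) {b c : Fin t} {x : ι → F} (hx0 : x ≠ 0) (hb : x ∈ D b)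
    (hc : x ∈ D c) : b = c := by
  by_contra hne
  obtain ⟨y, hy, hxy⟩ := hD.nd b x hb hx0
  exact hxy (by rw [B_comm]; exact hD.orth b c hne y hy x hc)

end Cfsg.Agent.OC2K
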