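import Cfsg.Agent.Helper29.OC2K.Defs

set_option autoImplicit false
set_option linter.unusedSectionVars false
set_option linter.unusedVariables false

/-! # OC2K (S5677 route ported to a general form) piece CMP1 (driver helper29; helper20): the projections `cmp D c`. -/

namespace Cfsg.Agent.OC2K

open Matrix Cfsg.Agent.Helper28.Sg Cfsg.Agent.Helper28.Spin Cfsg.Agent.Helper12.OrthGen
  Cfsg.Agent.S2614 Cfsg.Agent.S5683P Cfsg.Agent.Helper28.NDM

variable {F : Type*} [Field F] {t k : ℕ} {ι : Type} [Fintype ι] [DecidableEq ι] {Q : QuadraticForm F (ι → F)} [QHyp Q] {D : Fin t → Submodule F (ι → F)}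

namespace CMP1

theorem oth_eq (D : Fin t → Submodule F (ι → F)) (c : Fin t) :
    Oth D c = ⨆ (b : Fin t) (_ : b ≠ c), D b := by
  unfold Oth
  rw [iSup_subtype']

theorem le_oth' (D : Fin t → Submodule F (ι → F)) {b c : Fin t} (hbc : b ≠ c) :
    D b ≤ Oth D c := by
  unfold Oth
  exact le_iSup (fun b : {b : Fin t // b ≠ c} => D b.1) ⟨b, hbc⟩

end CMP1

/-- `D c` and `Oth D c = ⨆ b ≠ c, D b` are complementary (`hD.indep`, `hD.top`) -/
theorem CMP1.isCompl (hD : HD Q k D) (c : Fin t) : IsCompl (D c) (Oth D c) := by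
  constructor
  · rw [CMP1.oth_eq]
    exact hD.indep c
  · rw [codisjoint_iff, eq_top_iff, ← hD.top]
    apply iSup_le
    intro b
    by_cases hbc : b = c
    · rw [hbc]
      exact le_sup_left
    · exact le_trans (CMP1.le_oth' D hbc) le_sup_right

namespace CMP1

theorem cmp_eq (hD : HD Q k D) (c : Fin t) (x : ι → F) :
    cmp D c x = ((Submodule.projectionOnto (D c) (Oth D c) (CMP1.isCompl hD c) x : D c) :
      ι → F) := by
  unfold cmp
  rw [dif_pos (CMP1.isCompl hD c)]
  rfl

end CMP1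

theorem CMP1.mem (hD : HD Q k D) (c : Fin t) (x : ι → F) : cmp D c x ∈ D c := by
  rw [CMP1.cmp_eq hD]
  exact Submodule.coe_mem _

theorem CMP1.sub_mem (hD : HD Q k D) (c : Fin t) (x : ι → F) : x - cmp D c x ∈ Oth D c := by
  rw [← Submodule.projectionOnto_apply_eq_zero_iff (CMP1.isCompl hD c), map_sub,
    CMP1.cmp_eq hD, Submodule.projectionOnto_apply_left, sub_self]

theorem CMP1.of_mem (hD : HD Q k D) {c : Fin t} {x : ι → F} (hx : x ∈ D c) :
    cmp D c x = x := by
  rw [CMP1.cmp_eq hD]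
  rw [Submodule.projectionOnto_apply_of_mem_left (CMP1.isCompl hD c) hx]

theorem CMP1.of_mem_oth (hD : HD Q k D) {c : Fin t} {x : ι → F} (hx : x ∈ Oth D c) :
    cmp D c x = 0 := by
  rw [CMP1.cmp_eq hD, (Submodule.projectionOnto_apply_eq_zero_iff (CMP1.isCompl hD c)).2 hx]
  rfl

theorem CMP1.le_oth (hD : HD Q k D) {b c : Fin t} (hbc : b ≠ c) : D b ≤ Oth D c :=
  CMP1.le_oth' D hbc

theorem CMP1.of_mem_ne (hD : HD Q k D) {b c : Fin t} (hbc : b ≠ c) {x : ι → F}
    (hx : x ∈ D b) : cmp D c x = 0 :=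
  CMP1.of_mem_oth hD (CMP1.le_oth hD hbc hx)

theorem CMP1.sum (hD : HD Q k D) (x : ι → F) : ∑ c, cmp D c x = x := by
  have hx : x ∈ iSup D := by
    rw [hD.top]
    exact Submodule.mem_top
  induction hx using Submodule.iSup_induction' with
  | mem b x hx =>
    rw [Finset.sum_eq_single b]
    · exact CMP1.of_mem hD hx
    · intro c _ hcb
      exact CMP1.of_mem_ne hD (Ne.symm hcb) hx
    · intro h
      exact absurd (Finset.mem_univ b) h
  | zero => simp
  | add x y _ _ hx hy =>
    simp only [map_add, Finset.sum_add_distrib]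
    rw [hx, hy]

theorem CMP1.ext (hD : HD Q k D) {x y : ι → F} (h : ∀ c, cmp D c x = cmp D c y) : x = y := by
  rw [← CMP1.sum hD x, ← CMP1.sum hD y]
  exact Finset.sum_congr rfl (fun c _ => h c)

/-- a vector lies in `D c` iff its other components vanish -/
theorem CMP1.mem_iff (hD : HD Q k D) {c : Fin t} {x : ι → F} :
    x ∈ D c ↔ ∀ b, b ≠ c → cmp D b x = 0 := by
  constructor
  · intro hx b hbc
    exact CMP1.of_mem_ne hD (Ne.symm hbc) hx
  · intro h
    have h1 : ∑ b, cmp D b x = cmp D c x := by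
      rw [Finset.sum_eq_single c]
      · intro b _ hbc
        exact h b hbc
      · intro h'
        exact absurd (Finset.mem_univ c) h'
    rw [← CMP1.sum hD x, h1]
    exact CMP1.mem hD c x

/-- a vector with two non-zero components is not pure -/
theorem CMP1.not_pure (hD : HD Q k D) {b c : Fin t} (hbc : b ≠ c) {x : ι → F}
    (hb : cmp D b x ≠ 0) (hc : cmp D c x ≠ 0) : ¬ Pure D x := by
  rintro ⟨e, he⟩
  have h1 : b = e := by
    by_contra hbe
    exact hb ((CMP1.mem_iff hD).1 he b hbe)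
  have h2 : c = e := by
    by_contra hce
    exact hc ((CMP1.mem_iff hD).1 he c hce)
  exact hbc (h1.trans h2.symm)

/-- a non-pure vector has two non-zero components -/
theorem CMP1.exists_two (hD : HD Q k D) {x : ι → F} (hx : ¬ Pure D x) :
    ∃ b c, b ≠ c ∧ cmp D b x ≠ 0 ∧ cmp D c x ≠ 0 := by
  by_contra hcon
  push Not at hcon
  apply hx
  by_cases h : ∃ b, cmp D b x ≠ 0
  · obtain ⟨b, hb⟩ := h
    refine ⟨b, (CMP1.mem_iff hD).2 ?_⟩
    intro c hcb
    exact hcon b c (Ne.symm hcb) hb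
  · push Not at h
    have h0 : x = 0 := by
      rw [← CMP1.sum hD x]
      exact Finset.sum_eq_zero (fun c _ => h c)
    have ht : 0 < t := lt_of_lt_of_le (by norm_num) hD.t3
    exact ⟨⟨0, ht⟩, by rw [h0]; exact Submodule.zero_mem _⟩

end Cfsg.Agent.OC2K
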