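import Cfsg.Agent.Helper29.OC2K.Defs
import Cfsg.Agent.Helper29.OC2K.CMP1

set_option autoImplicit false
set_option linter.unusedSectionVars false
set_option linter.unusedVariables false

/-! # OC2K (S5677 route ported to a general form) piece CMP2 (driver helper29; helper20): the projections `cmp D c` and the form. -/

namespace Cfsg.Agent.OC2K

open Matrix Cfsg.Agent.Helper28.Sg Cfsg.Agent.Helper28.Spin Cfsg.Agent.Helper12.OrthGen
  Cfsg.Agent.S2614 Cfsg.Agent.S5683P Cfsg.Agent.Helper28.NDM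

variable {F : Type*} [Field F] {t k : ℕ} {ι : Type} [Fintype ι] [DecidableEq ι] {Q : QuadraticForm F (ι → F)} [QHyp Q] {D : Fin t → Submodule F (ι → F)}

namespace CMP2

theorem B_add_right' (x y z : ι → F) :
    B (Q) x (y + z) = B (Q) x y + B (Q) x z :=
  QuadraticMap.polar_add_right _ _ _ _

theorem B_sub_right' (x y z : ι → F) :
    B (Q) x (y - z) = B (Q) x y - B (Q) x z :=
  QuadraticMap.polar_sub_right _ _ _ _

theorem B_zero_right' (x : ι → F) : B (Q) x 0 = 0 :=
  QuadraticMap.polar_zero_right _ _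

theorem B_sum_left' {κ : Type*} (s : Finset κ) (v : κ → ι → F) (y : ι → F) :
    B (Q) (∑ c ∈ s, v c) y = ∑ c ∈ s, B (Q) (v c) y := by
  show QuadraticMap.polarBilin (Q) (∑ c ∈ s, v c) y = _
  rw [map_sum, LinearMap.sum_apply]
  rfl

theorem B_sum_right' {κ : Type*} (s : Finset κ) (v : κ → ι → F) (y : ι → F) :
    B (Q) y (∑ c ∈ s, v c) = ∑ c ∈ s, B (Q) y (v c) := by
  show QuadraticMap.polarBilin (Q) y (∑ c ∈ s, v c) = _
  rw [map_sum]
  rfl

/-- the form on a sum of mutually orthogonal vectors -/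
theorem Q_sum_orth {κ : Type*} [DecidableEq κ] (s : Finset κ) (v : κ → ι → F)
    (h : ∀ c ∈ s, ∀ d ∈ s, c ≠ d → B (Q) (v c) (v d) = 0) :
    Q (∑ c ∈ s, v c) = ∑ c ∈ s, Q (v c) := by
  induction s using Finset.induction_on with
  | empty => simp
  | insert a s ha ih =>
    rw [Finset.sum_insert ha, Finset.sum_insert ha, Q_add, B_sum_right',
      ih (fun c hc d hd hcd => h c (Finset.mem_insert_of_mem hc) d (Finset.mem_insert_of_mem hd) hcd)]
    have h0 : ∑ c ∈ s, B (Q) (v a) (v c) = 0 := by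
      apply Finset.sum_eq_zero
      intro c hc
      apply h a (Finset.mem_insert_self a s) c (Finset.mem_insert_of_mem hc)
      rintro rfl
      exact ha hc
    rw [h0, add_zero]

end CMP2

theorem CMP2.oth_orth (hD : HD Q k D) {c : Fin t} {y z : ι → F} (hy : y ∈ D c)
    (hz : z ∈ Oth D c) : B (Q) y z = 0 := by
  unfold Oth at hz
  induction hz using Submodule.iSup_induction' with
  | mem b z hz => exact hD.orth c b.1 (Ne.symm b.2) y hy z hz
  | zero => exact CMP2.B_zero_right' y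
  | add z z' _ _ hz hz' => rw [CMP2.B_add_right', hz, hz', add_zero]

theorem CMP2.B_left (hD : HD Q k D) {c : Fin t} {y : ι → F} (hy : y ∈ D c) (x : ι → F) :
    B (Q) y (cmp D c x) = B (Q) y x := by
  have h := CMP2.oth_orth hD hy (CMP1.sub_mem hD c x)
  rw [CMP2.B_sub_right', sub_eq_zero] at h
  exact h.symm

theorem CMP2.B_right (hD : HD Q k D) {c : Fin t} {y : ι → F} (hy : y ∈ D c) (x : ι → F) :
    B (Q) (cmp D c x) y = B (Q) x y := by
  rw [B_comm, CMP2.B_left hD hy, B_comm]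

/-- a vector perpendicular to the block `D c` has zero `c`-component -/
theorem CMP2.eq_zero_of_orth (hD : HD Q k D) {c : Fin t} {x : ι → F}
    (h : ∀ y ∈ D c, B (Q) y x = 0) : cmp D c x = 0 := by
  by_contra h0
  obtain ⟨y, hy, hy0⟩ := hD.nd c (cmp D c x) (CMP1.mem hD c x) h0
  apply hy0
  rw [CMP2.B_right hD hy, B_comm]
  exact h y hy

theorem CMP2.mem_oth_of_orth (hD : HD Q k D) {c : Fin t} {x : ι → F}
    (h : ∀ y ∈ D c, B (Q) y x = 0) : x ∈ Oth D c := by
  have h1 := CMP1.sub_mem hD c x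
  rw [CMP2.eq_zero_of_orth hD h, sub_zero] at h1
  exact h1

theorem CMP2.B_sum (hD : HD Q k D) (x y : ι → F) :
    B (Q) x y = ∑ c, B (Q) (cmp D c x) (cmp D c y) := by
  conv_lhs => rw [← CMP1.sum hD x]
  rw [CMP2.B_sum_left']
  apply Finset.sum_congr rfl
  intro c _
  rw [CMP2.B_left hD (CMP1.mem hD c x)]

theorem CMP2.Q_sum (hD : HD Q k D) (x : ι → F) :
    Q x = ∑ c, Q (cmp D c x) := by
  conv_lhs => rw [← CMP1.sum hD x]
  apply CMP2.Q_sum_orth
  intro c _ d _ hcd
  exact hD.orth c d hcd _ (CMP1.mem hD c x) _ (CMP1.mem hD d x)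

end Cfsg.Agent.OC2K
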