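import Cfsg.Agent.Helper29.OC2K.Defs

set_option autoImplicit false
set_option linter.unusedSectionVars false
set_option linter.unusedVariables false

/-! S5677 piece GEOC (driver helper29): in a nondegenerate `N`, a vector perpendicular to
`N ∩ u^⊥` is a multiple of `u`. -/

namespace Cfsg.Agent.OC2K

open Matrix Cfsg.Agent.Helper28.Sg Cfsg.Agent.Helper28.Spin Cfsg.Agent.Helper12.OrthGen
  Cfsg.Agent.S2614 Cfsg.Agent.S5683P Cfsg.Agent.Helper28.NDM

variable {F : Type*} [Field F] {t k : ℕ} {ι : Type} [Fintype ι] [DecidableEq ι] {Q : QuadraticForm F (ι → F)} [QHyp Q] {D : Fin t → Submodule F (ι → F)}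

/-- in `N`, a vector perpendicular to `N ∩ u^⊥` is a multiple of `u` (`u` singular, non-zero) -/
theorem GEOC.perp_perp (N : Submodule F (ι → F)) (hN : NDon (Q) N) {u : ι → F}
    (hu : u ∈ N) (hu0 : u ≠ 0) (hQu : Q u = 0) {x : ι → F} (hx : x ∈ N)
    (h : ∀ w ∈ N, B (Q) u w = 0 → B (Q) w x = 0) : ∃ s : F, x = s • u := by
  obtain ⟨y, hyN, huy⟩ := hN u hu hu0
  have huu : B (Q) u u = 0 := B_self_of_singular (Q) hQu
  -- `f ∈ N` with `B u f = 1`
  obtain ⟨f, hf⟩ : ∃ f : ι → F, f = (B (Q) u y)⁻¹ • y := ⟨_, rfl⟩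
  have hfN : f ∈ N := by rw [hf]; exact N.smul_mem _ hyN
  have huf : B (Q) u f = 1 := by
    rw [hf]
    show QuadraticMap.polar _ u (_ • y) = 1
    rw [QuadraticMap.polar_smul_right, smul_eq_mul]
    exact inv_mul_cancel₀ huy
  have hfu : B (Q) f u = 1 := by rw [B_comm]; exact huf
  obtain ⟨s, hs⟩ : ∃ s : F, s = B (Q) f x := ⟨_, rfl⟩
  refine ⟨s, ?_⟩
  by_contra hne
  have hx'0 : x - s • u ≠ 0 := fun h0 => hne (sub_eq_zero.mp h0)
  have hx'N : x - s • u ∈ N := N.sub_mem hx (N.smul_mem _ hu)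
  obtain ⟨w, hwN, hw⟩ := hN _ hx'N hx'0
  apply hw
  rw [B_comm]
  -- `w = w' + B u w • f`, `w' ⊥ u`
  obtain ⟨w', hw'⟩ : ∃ w' : ι → F, w' = w - B (Q) u w • f := ⟨_, rfl⟩
  have hw'N : w' ∈ N := by rw [hw']; exact N.sub_mem hwN (N.smul_mem _ hfN)
  have huw' : B (Q) u w' = 0 := by
    rw [hw']
    show QuadraticMap.polar _ u (w - _ • f) = 0
    rw [QuadraticMap.polar_sub_right, QuadraticMap.polar_smul_right, smul_eq_mul]
    have : QuadraticMap.polar (⇑(Q)) u f = 1 := huf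
    rw [this, mul_one, sub_self]
  have hw'x : B (Q) w' x = 0 := h w' hw'N huw'
  have hw'u : B (Q) w' u = 0 := by rw [B_comm]; exact huw'
  have hweq : w = w' + B (Q) u w • f := by rw [hw']; abel
  have e1 : B (Q) w (x - s • u) =
      B (Q) w x - s * B (Q) w u := by
    show QuadraticMap.polar _ w (x - s • u) = _
    rw [QuadraticMap.polar_sub_right, QuadraticMap.polar_smul_right, smul_eq_mul]
  have e2 : B (Q) w x = B (Q) w' x + B (Q) u w * B (Q) f x := by
    conv_lhs => rw [hweq]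
    show QuadraticMap.polar _ (w' + _ • f) x = _
    rw [QuadraticMap.polar_add_left, QuadraticMap.polar_smul_left, smul_eq_mul]
  rw [e1, e2, hw'x, ← hs, B_comm (Q) w u]
  ring

end Cfsg.Agent.OC2K
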