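import Cfsg.Agent.Helper29.OC2K.Defs
import Cfsg.Agent.Helper29.OC2K.STAB
import Cfsg.Agent.Helper29.OC2K.BLK

set_option autoImplicit false
set_option linter.unusedSectionVars false
set_option linter.unusedVariables false

/-! # OC2K (S5677 route ported to a general form) piece REFLMEM (driver helper29; helper23): products of two reflections in block vectors of
equal norm lie in `HS D` -/

namespace Cfsg.Agent.OC2K

open Matrix Cfsg.Agent.Helper28.Sg Cfsg.Agent.Helper28.Spin Cfsg.Agent.Helper12.OrthGen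
  Cfsg.Agent.S2614 Cfsg.Agent.S5683P Cfsg.Agent.Helper28.NDM

variable {F : Type*} [Field F] {t k : ℕ} {ι : Type} [Fintype ι] [DecidableEq ι] {Q : QuadraticForm F (ι → F)} [QHyp Q] {D : Fin t → Submodule F (ι → F)}

namespace REFLMEM

/-- a reflection in a block vector maps every block into itself -/
theorem block [Fintype F] (hD : HD Q k D) {c : Fin t} {a : ι → F} (ha : a ∈ D c)
    (hQa : Q a ≠ 0) (i : Fin t) (x : ι → F) (hx : x ∈ D i) :
    mt (Q) (reflO (Q) a hQa) *ᵥ x ∈ D i := by
  rw [reflO_mulVec]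
  by_cases hic : i = c
  · subst hic
    exact (D i).sub_mem hx ((D i).smul_mem _ ha)
  · have h1 : B (Q) a x = 0 := hD.orth c i (Ne.symm hic) a ha x hx
    rw [h1, mul_zero, zero_smul, sub_zero]
    exact hx

/-- a third block -/
theorem exists_third (ht : 3 ≤ t) (c c' : Fin t) : ∃ d : Fin t, d ≠ c ∧ d ≠ c' := by
  by_contra hcon
  push Not at hcon
  -- every element is `c` or `c'`
  have hsub : (Finset.univ : Finset (Fin t)) ⊆ {c, c'} := by
    intro d _
    by_cases hd : d = c
    · simp [hd]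
    · have := hcon d hd
      simp [this]
  have h1 := Finset.card_le_card hsub
  rw [Finset.card_univ, Fintype.card_fin] at h1
  have h2 : ({c, c'} : Finset (Fin t)).card ≤ 2 := Finset.card_le_two
  omega

end REFLMEM

theorem REFLMEM.mem [Fintype F] (hD : HD Q k D) {c c' : Fin t} {a a' : ι → F} (ha : a ∈ D c)
    (ha' : a' ∈ D c') (hQa : Q a ≠ 0) (hQa' : Q a' ≠ 0)
    (hQ : Q a = Q a') :
    reflO (Q) a hQa * reflO (Q) a' hQa' ∈ HS D := by
  rw [mem_HS]
  constructor
  · apply STAB.of_block hD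
    intro i x hx
    rw [mt_mul_mulVec]
    exact REFLMEM.block hD ha hQa i _ (REFLMEM.block hD ha' hQa' i x hx)
  · obtain ⟨d, hdc, hdc'⟩ := REFLMEM.exists_third hD.t3 c c'
    obtain ⟨e, f, he, hf, hp⟩ := BLK.hyp hD d
    exact refl_mul_mem_S hQa hQa' hQ hp.Qe hp.Qf hp.Bef
      (hD.orth d c hdc e he a ha) (hD.orth d c' hdc' e he a' ha')
      (hD.orth d c hdc f hf a ha) (hD.orth d c' hdc' f hf a' ha')

end Cfsg.Agent.OC2K
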