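import Cfsg.Agent.Helper29.OC2K.Defs
import Cfsg.Agent.Helper29.OC2K.STAB
import Cfsg.Agent.Helper29.OC2K.CMP1
import Cfsg.Agent.Helper29.OC2K.CMP2

set_option autoImplicit false
set_option linter.unusedSectionVars false
set_option linter.unusedVariables false

/-! # OC2K (S5677 route ported to a general form) piece SIEGMEM (driver helper29; helper23): the block Siegel elements lie in `HS D` -/

namespace Cfsg.Agent.OC2K

open Matrix Cfsg.Agent.Helper28.Sg Cfsg.Agent.Helper28.Spin Cfsg.Agent.Helper12.OrthGen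
  Cfsg.Agent.S2614 Cfsg.Agent.S5683P Cfsg.Agent.Helper28.NDM

variable {F : Type*} [Field F] {t k : ℕ} {ι : Type} [Fintype ι] [DecidableEq ι] {Q : QuadraticForm F (ι → F)} [QHyp Q] {D : Fin t → Submodule F (ι → F)}

namespace SIEGMEM

/-- a block Siegel element maps every block into itself -/
theorem block (hD : HD Q k D) {c : Fin t} {u w : ι → F} (hu : u ∈ D c) (hw : w ∈ D c)
    (hQu : Q u = 0) (huw : B (Q) u w = 0) (i : Fin t) (x : ι → F)
    (hx : x ∈ D i) : mt (Q) (siegO (Q) u w hQu huw) *ᵥ x ∈ D i := by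
  rw [siegO_mulVec]
  by_cases hic : i = c
  · subst hic
    exact (D i).sub_mem ((D i).sub_mem ((D i).add_mem hx ((D i).smul_mem _ hw))
      ((D i).smul_mem _ hu)) ((D i).smul_mem _ hu)
  · have h1 : B (Q) u x = 0 := hD.orth c i (Ne.symm hic) u hu x hx
    have h2 : B (Q) w x = 0 := hD.orth c i (Ne.symm hic) w hw x hx
    rw [h1, h2, zero_smul, zero_smul, mul_zero, zero_smul, add_zero, sub_zero, sub_zero]
    exact hx

end SIEGMEM

theorem SIEGMEM.mem (hD : HD Q k D) {c : Fin t} {u w : ι → F} (hu : u ∈ D c) (hw : w ∈ D c)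
    (hQu : Q u = 0) (huw : B (Q) u w = 0) :
    siegO (Q) u w hQu huw ∈ HS D := by
  rw [mem_HS]
  exact ⟨STAB.of_block hD (fun i x hx => SIEGMEM.block hD hu hw hQu huw i x hx),
    siegO_mem_S (Q) u w hQu huw⟩

/-- ... hence `Tu Q D c u ⊆ Rad M u` for every overgroup `M` of `HS D` -/
theorem SIEGMEM.Tu_le (hD : HD Q k D) {M : Subgroup (OGq Q)} (hHM : HS D ≤ M) {c : Fin t}
    {u w : ι → F} (hu : u ∈ D c) (hQu : Q u = 0) (hw : w ∈ Tu Q D c u) :
    w ∈ Rad M u hQu := by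
  obtain ⟨hw1, hw2⟩ := mem_Tu.mp hw
  exact ⟨hw2, hHM (SIEGMEM.mem hD hu hw1 hQu hw2)⟩

/-- the action of a block Siegel element on the components -/
theorem SIEGMEM.cmp_same (hD : HD Q k D) {c : Fin t} {u w : ι → F} (hu : u ∈ D c)
    (hw : w ∈ D c) (hQu : Q u = 0) (huw : B (Q) u w = 0) (x : ι → F) :
    cmp D c (mt (Q) (siegO (Q) u w hQu huw) *ᵥ x) =
      mt (Q) (siegO (Q) u w hQu huw) *ᵥ cmp D c x := by
  rw [siegO_mulVec, siegO_mulVec, CMP2.B_left hD hu x, CMP2.B_left hD hw x]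
  simp only [map_add, map_sub, map_smul]
  rw [CMP1.of_mem hD hu, CMP1.of_mem hD hw]

theorem SIEGMEM.cmp_other (hD : HD Q k D) {b c : Fin t} (hbc : b ≠ c) {u w : ι → F}
    (hu : u ∈ D c) (hw : w ∈ D c) (hQu : Q u = 0) (huw : B (Q) u w = 0)
    (x : ι → F) :
    cmp D b (mt (Q) (siegO (Q) u w hQu huw) *ᵥ x) = cmp D b x := by
  rw [siegO_mulVec]
  simp only [map_add, map_sub, map_smul]
  rw [CMP1.of_mem_ne hD (Ne.symm hbc) hu, CMP1.of_mem_ne hD (Ne.symm hbc) hw]
  simp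

end Cfsg.Agent.OC2K
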