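import Cfsg.Agent.Helper29.OC2K.Defs

set_option autoImplicit false
set_option linter.unusedSectionVars false
set_option linter.unusedVariables false

/-! # OC2K (S5677 route ported to a general form) piece GP -/

namespace Cfsg.Agent.OC2K

open Matrix Cfsg.Agent.Helper28.Sg Cfsg.Agent.Helper28.Spin Cfsg.Agent.Helper12.OrthGen
  Cfsg.Agent.S2614 Cfsg.Agent.S5683P Cfsg.Agent.Helper28.NDM

variable {F : Type*} [Field F] {t k : ℕ} {ι : Type} [Fintype ι] [DecidableEq ι] {Q : QuadraticForm F (ι → F)} [QHyp Q] {D : Fin t → Submodule F (ι → F)}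
  {M : Subgroup (OGq Q)}

/-- (GP1) `h ∈ HS D` fixing `v` maps `P` to itself -/
theorem GP.one (hHM : HS D ≤ M) {v : ι → F} (hQv : Q v = 0) {h : OGq Q}
    (hh : h ∈ HS D) (hfix : mt (Q) h *ᵥ v = v) {y : ι → F} (hy : y ∈ Rad M v hQv) :
    mt (Q) h *ᵥ y - y ∈ Rad M v hQv := by
  have h1 : mt (Q) h *ᵥ y ∈ Rad M v hQv := Rad_conj' (hHM hh) hy hQv hfix rfl
  exact (Rad M v hQv).sub_mem h1 hy

/-- (GP2) `P` contains no pure non-zero singular vector -/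
theorem GP.two (hD : HD Q k D) (hHM : HS D ≤ M) (hG1 : ¬ G1 M D) {v : ι → F} (hv : NPV M D v)
    {c : Fin t} {d : ι → F} (hd : d ∈ D c) (hd0 : d ≠ 0) (hQd : Q d = 0) :
    d ∉ Rad M v hv.Qv := by
  intro hmem
  have h1 : v ∈ Rad M d hQd := Rad_swap hQd hmem
  have h2 : v ∈ D c := by
    by_contra hvc
    exact hG1 ⟨c, d, hQd, hd, hd0, v, h1, hvc⟩
  exact hv.np ⟨c, h2⟩

theorem GP.smul_zero (hD : HD Q k D) (hHM : HS D ≤ M) (hG1 : ¬ G1 M D) {v : ι → F}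
    (hv : NPV M D v) {c : Fin t} {d : ι → F} (hd : d ∈ D c) (hd0 : d ≠ 0)
    (hQd : Q d = 0) {s : F} (h : s • d ∈ Rad M v hv.Qv) : s = 0 := by
  by_contra hs
  have h0 : s • d ≠ 0 := smul_ne_zero hs hd0
  have hQ : Q (s • d) = 0 := by rw [Q_smul, hQd, mul_zero]
  exact GP.two hD hHM hG1 hv ((D c).smul_mem s hd) h0 hQ h

end Cfsg.Agent.OC2K
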