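import Cfsg.Agent.Helper29.OC2K.Defs
import Cfsg.Agent.Helper29.OC2K.Defs2
import Cfsg.Agent.Helper29.OC2K.SIEGMEM

set_option autoImplicit false
set_option linter.unusedSectionVars false
set_option linter.unusedVariables false

/-! S5677 piece LSUB (driver helper29): `Lsub M u = {w | ∀ s, s • w ∈ Rad M u}`. -/

namespace Cfsg.Agent.OC2K

open Matrix Cfsg.Agent.Helper28.Sg Cfsg.Agent.Helper28.Spin Cfsg.Agent.Helper12.OrthGen
  Cfsg.Agent.S2614 Cfsg.Agent.S5683P Cfsg.Agent.Helper28.NDM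

variable {F : Type*} [Field F] [Fintype F] {t k : ℕ} {ι : Type} [Fintype ι] [DecidableEq ι] {Q : QuadraticForm F (ι → F)} [QHyp Q] {D : Fin t → Submodule F (ι → F)}
  {M : Subgroup (OGq Q)}

theorem LSUB.mem_iff {u : ι → F} (hQu : Q u = 0) {w : ι → F} :
    w ∈ Lsub M u hQu ↔ ∀ s : F, s • w ∈ Rad M u hQu := by
  constructor
  · rintro ⟨h1, h2⟩ s
    exact ⟨B_smul_right_zero (Q) s h1, h2 s _⟩
  · intro hs
    refine ⟨?_, fun c hc => ?_⟩
    · have := (hs 1).1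
      rwa [one_smul] at this
    · exact (hs c).2

theorem LSUB.mem_rad {u : ι → F} (hQu : Q u = 0) {w : ι → F}
    (hw : w ∈ Lsub M u hQu) : w ∈ Rad M u hQu := by
  have := (LSUB.mem_iff hQu).1 hw 1
  rwa [one_smul] at this

theorem LSUB.Tu_le (hD : HD Q k D) (hHM : HS D ≤ M) {c : Fin t} {u : ι → F} (hu : u ∈ D c)
    (hQu : Q u = 0) : Tu Q D c u ≤ Lsub M u hQu := by
  intro w hw
  rw [LSUB.mem_iff]
  intro s
  exact SIEGMEM.Tu_le hD hHM hu hQu ((Tu Q D c u).smul_mem s hw)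

/-- `x ∈ Lsub M u`, `x` singular `⟹ u ∈ Lsub M x` (`Rad_swap` for `s • x`, then `Rad_smul_left`) -/
theorem LSUB.swap {u x : ι → F} (hQu : Q u = 0) (hQx : Q x = 0)
    (hx : x ∈ Lsub M u hQu) : u ∈ Lsub M x hQx := by
  rw [LSUB.mem_iff]
  intro s
  have h1 : s • x ∈ Rad M u hQu := (LSUB.mem_iff hQu).1 hx s
  have hsx : Q (s • x) = 0 := by rw [Q_smul, hQx, mul_zero]
  have h2 : u ∈ Rad M (s • x) hsx := Rad_swap hsx h1
  exact Rad_smul_left hQx s hsx h2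

end Cfsg.Agent.OC2K
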