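import Cfsg.Agent.Helper29.OC2K.Defs
import Cfsg.Agent.Helper29.OC2K.Defs2
import Cfsg.Agent.Helper29.OC2K.SIEGMEM

set_option autoImplicit false
set_option linter.unusedSectionVars false
set_option linter.unusedVariables false

/-! # OC2K (S5677 route ported to a general form) piece PMB: the `±`-trick in a block other than the block of `u`. -/

namespace Cfsg.Agent.OC2K

open Matrix Cfsg.Agent.Helper28.Sg Cfsg.Agent.Helper28.Spin Cfsg.Agent.Helper12.OrthGen
  Cfsg.Agent.S2614 Cfsg.Agent.S5683P Cfsg.Agent.Helper28.NDM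

variable {F : Type*} [Field F] [Fintype F] {t k : ℕ} {ι : Type} [Fintype ι] [DecidableEq ι] {Q : QuadraticForm F (ι → F)} [QHyp Q] {D : Fin t → Submodule F (ι → F)}
  {M : Subgroup (OGq Q)}

/-- the `±`-trick in a block `b` other than the block `c` of `u`: `h_± := E(e', ± z') ∈ HS D ≤ M`
(SIEGMEM.mem) fix `u`, so map `Rad M u` to itself (`Rad_conj'`), and
`(h_+ w - w) + (h_- w - w) = - 2 Q(z') B(e', w) e'` -/
theorem PMB.mem (hD : HD Q k D) (hHM : HS D ≤ M) {c b : Fin t} (hcb : c ≠ b) {u : ι → F}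
    (hu : u ∈ D c) (hQu : Q u = 0) {e' z' : ι → F} (he' : e' ∈ D b) (hz' : z' ∈ D b)
    (hQe' : Q e' = 0) (hez : B (Q) e' z' = 0) {w : ι → F}
    (hw : w ∈ Rad M u hQu) :
    (2 * (Q z' * B (Q) e' w)) • e' ∈ Rad M u hQu := by
  have he'u : B (Q) e' u = 0 := hD.orth b c (Ne.symm hcb) e' he' u hu
  have hz'u : B (Q) z' u = 0 := hD.orth b c (Ne.symm hcb) z' hz' u hu
  have hez' : B (Q) e' (-z') = 0 := by rw [B_neg_right, hez, neg_zero]
  have hp : siegO (Q) e' z' hQe' hez ∈ M := hHM (SIEGMEM.mem hD he' hz' hQe' hez)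
  have hm : siegO (Q) e' (-z') hQe' hez' ∈ M :=
    hHM (SIEGMEM.mem hD he' ((D b).neg_mem hz') hQe' hez')
  have hpu : mt (Q) (siegO (Q) e' z' hQe' hez) *ᵥ u = u := by
    rw [siegO_mulVec, he'u, hz'u]
    simp
  have hmu : mt (Q) (siegO (Q) e' (-z') hQe' hez') *ᵥ u = u := by
    rw [siegO_mulVec, he'u, B_comm _ (-z') u, B_neg_right, B_comm _ u z', hz'u]
    simp
  have h1 := Rad_conj' hp hw hQu hpu rfl
  have h2 := Rad_conj' hm hw hQu hmu rfl
  have h3 := (Rad M u hQu).sub_mem ((Rad M u hQu).add_mem hw hw) ((Rad M u hQu).add_mem h1 h2)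
  have hQneg : Q (-z') = Q z' := by
    rw [show -z' = (-1 : F) • z' by simp, Q_smul]
    ring
  have hBneg : B (Q) (-z') w = - B (Q) z' w := by
    rw [B_comm, B_neg_right, B_comm]
  convert h3 using 1
  rw [siegO_mulVec, siegO_mulVec, hQneg, hBneg]
  funext i
  simp only [Pi.smul_apply, Pi.add_apply, Pi.sub_apply, Pi.neg_apply, smul_eq_mul]
  ring

end Cfsg.Agent.OC2K
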