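import Cfsg.Agent.Helper29.OC2K.Defs
import Cfsg.Agent.Helper29.OC2K.RADT
import Cfsg.Agent.Helper29.OC2K.DIM3T

/-! S5677 piece DEP (driver helper29): for `k = 3`, two pure vectors of `P = Rad M v` in the same block
are linearly dependent. -/

set_option autoImplicit false
set_option linter.unusedSectionVars false
set_option linter.unusedVariables false

namespace Cfsg.Agent.OC2K

open Matrix Cfsg.Agent.Helper28.Sg Cfsg.Agent.Helper28.Spin Cfsg.Agent.Helper12.OrthGen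
  Cfsg.Agent.S2614 Cfsg.Agent.S5683P Cfsg.Agent.Helper28.NDM

variable {F : Type*} [Field F] {t k : ℕ} {ι : Type} [Fintype ι] [DecidableEq ι] {Q : QuadraticForm F (ι → F)} [QHyp Q] {D : Fin t → Submodule F (ι → F)}
  {M : Subgroup (OGq Q)}

/-- `k = 3`: two pure vectors of `P` in the same block are linearly dependent -/
theorem DEP.dep [Fintype F] (h2 : (2 : F) ≠ 0) (hD : HD Q k D) (hHM : HS D ≤ M) (hG1 : ¬ G1 M D)
    (hk : k = 3) {v : ι → F} (hv : NPV M D v) {c : Fin t} {x x' : ι → F} (hx : x ∈ D c)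
    (hx' : x' ∈ D c) (hxP : x ∈ Rad M v hv.Qv) (hx'P : x' ∈ Rad M v hv.Qv) :
    ∃ α β : F, (α ≠ 0 ∨ β ≠ 0) ∧ α • x + β • x' = 0 := by
  classical
  have hnp : v ∉ D c := fun h => hv.np ⟨c, h⟩
  obtain ⟨g, hg, c₀, u₀, hu₀, hu₀0, hQu₀, hgu⟩ := hv.img
  subst hgu
  obtain ⟨w₀, hw₀, hQw₀, huw₀, hspan⟩ := DIM3T.basis h2 hD hk hu₀ hu₀0 hQu₀
  obtain ⟨y, hy, hxy⟩ := (RADV.iff hD hHM hG1 hg hu₀ hu₀0 hQu₀ hv.Qv).1 hxP
  obtain ⟨y', hy', hxy'⟩ := (RADV.iff hD hHM hG1 hg hu₀ hu₀0 hQu₀ hv.Qv).1 hx'P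
  obtain ⟨α₁, β₁, e₁⟩ := hspan y hy
  obtain ⟨α₂, β₂, e₂⟩ := hspan y' hy'
  -- `x = α₁ v + β₁ g w₀`, `x' = α₂ v + β₂ g w₀`
  have hx1 : x = α₁ • (mt (Q) g *ᵥ u₀) + β₁ • (mt (Q) g *ᵥ w₀) := by
    rw [hxy, e₁, Matrix.mulVec_add, Matrix.mulVec_smul, Matrix.mulVec_smul]
  have hx2 : x' = α₂ • (mt (Q) g *ᵥ u₀) + β₂ • (mt (Q) g *ᵥ w₀) := by
    rw [hxy', e₂, Matrix.mulVec_add, Matrix.mulVec_smul, Matrix.mulVec_smul]
  -- `β₂ x - β₁ x' = (β₂ α₁ - β₁ α₂) v ∈ D c`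
  have hcomb : β₂ • x + (-β₁) • x' = (β₂ * α₁ - β₁ * α₂) • (mt (Q) g *ᵥ u₀) := by
    rw [hx1, hx2]
    module
  have hmem : (β₂ * α₁ - β₁ * α₂) • (mt (Q) g *ᵥ u₀) ∈ D c := by
    rw [← hcomb]
    exact (D c).add_mem ((D c).smul_mem _ hx) ((D c).smul_mem _ hx')
  have hzero : β₂ * α₁ - β₁ * α₂ = 0 := by
    by_contra h
    apply hnp
    have := (D c).smul_mem (β₂ * α₁ - β₁ * α₂)⁻¹ hmem
    rwa [smul_smul, inv_mul_cancel₀ h, one_smul] at this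
  rw [hzero, zero_smul] at hcomb
  by_cases hβ : β₂ ≠ 0 ∨ -β₁ ≠ 0
  · exact ⟨β₂, -β₁, hβ, hcomb⟩
  · push Not at hβ
    obtain ⟨hβ2, hβ1⟩ := hβ
    have hβ1' : β₁ = 0 := neg_eq_zero.1 hβ1
    -- `x = α₁ v ∈ D c`, so `α₁ = 0` and `x = 0`
    rw [hβ1', zero_smul, add_zero] at hx1
    have hα₁ : α₁ = 0 := by
      by_contra h
      apply hnp
      have := (D c).smul_mem α₁⁻¹ (hx1 ▸ hx)
      rwa [smul_smul, inv_mul_cancel₀ h, one_smul] at this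
    refine ⟨1, 0, Or.inl one_ne_zero, ?_⟩
    rw [hx1, hα₁, zero_smul, smul_zero, zero_smul, add_zero]

end Cfsg.Agent.OC2K
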