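import Cfsg.Agent.Helper29.OC2K.Defs
import Cfsg.Agent.Helper29.OC2K.REFLMEM

/-! S5677 piece PAIRROT (helper21): the paired rotation `(r_{e+f} r_{n₁}) (r_{e+βf} r_{n₂})`. -/

set_option autoImplicit false
set_option linter.unusedSectionVars false
set_option linter.unusedVariables false

namespace Cfsg.Agent.OC2K

open Matrix Cfsg.Agent.Helper28.Sg Cfsg.Agent.Helper28.Spin Cfsg.Agent.Helper12.OrthGen
  Cfsg.Agent.S2614 Cfsg.Agent.S5683P Cfsg.Agent.Helper28.NDM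

variable {F : Type*} [Field F] {t k : ℕ} {ι : Type} [Fintype ι] [DecidableEq ι] {Q : QuadraticForm F (ι → F)} [QHyp Q] {D : Fin t → Submodule F (ι → F)}
  {M : Subgroup (OGq Q)}

namespace PAIRROT

theorem B_add_l (x y z : ι → F) :
    B (Q) (x + y) z = B (Q) x z + B (Q) y z :=
  QuadraticMap.polar_add_left _ _ _ _

theorem B_smul_l (s : F) (x z : ι → F) :
    B (Q) (s • x) z = s * B (Q) x z := by
  show QuadraticMap.polar _ _ _ = _
  rw [QuadraticMap.polar_smul_left, smul_eq_mul]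

theorem B_smul_r (s : F) (x z : ι → F) :
    B (Q) x (s • z) = s * B (Q) x z := by
  show QuadraticMap.polar _ _ _ = _
  rw [QuadraticMap.polar_smul_right, smul_eq_mul]

theorem B_neg_r (x z : ι → F) : B (Q) x (-z) = -B (Q) x z :=
  QuadraticMap.polar_neg_right _ _ _

/-- a reflection fixes the vectors perpendicular to its centre -/
theorem refl_fix [Fintype F] {a : ι → F} (ha : Q a ≠ 0) {x : ι → F}
    (h : B (Q) a x = 0) : mt (Q) (reflO (Q) a ha) *ᵥ x = x := by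
  rw [reflO_mulVec, h, mul_zero, zero_smul, sub_zero]

end PAIRROT

theorem PAIRROT.exists [Fintype F] (h2 : (2 : F) ≠ 0) (hD : HD Q k D) {c c' : Fin t} (hcc' : c ≠ c')
    {e f n₁ n₂ : ι → F} (he : e ∈ D c) (hf : f ∈ D c) (hp : HypPair (Q) e f)
    (hn₁ : n₁ ∈ D c') (hn₂ : n₂ ∈ D c') {β : F} (hβ : β ≠ 0) (hQ₁ : Q n₁ = 1)
    (hQ₂ : Q n₂ = β) :
    ∃ h ∈ HS D, mt (Q) h *ᵥ e = β • e ∧ mt (Q) h *ᵥ f = β⁻¹ • f ∧
      ∀ x, B (Q) e x = 0 → B (Q) f x = 0 → B (Q) n₁ x = 0 →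
        B (Q) n₂ x = 0 → mt (Q) h *ᵥ x = x := by
  have hBef : B (Q) e f = 1 := hp.Bef
  have hQe : Q e = 0 := hp.Qe
  have hQf : Q f = 0 := hp.Qf
  have hBfe : B (Q) f e = 1 := by rw [B_comm]; exact hBef
  have hBee : B (Q) e e = 0 := B_self_of_singular (Q) hQe
  have hBff : B (Q) f f = 0 := B_self_of_singular (Q) hQf
  have hn1e : B (Q) n₁ e = 0 := hD.orth c' c hcc'.symm n₁ hn₁ e he
  have hn1f : B (Q) n₁ f = 0 := hD.orth c' c hcc'.symm n₁ hn₁ f hf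
  have hn2e : B (Q) n₂ e = 0 := hD.orth c' c hcc'.symm n₂ hn₂ e he
  have hn2f : B (Q) n₂ f = 0 := hD.orth c' c hcc'.symm n₂ hn₂ f hf
  -- the two block vectors
  have hQa1 : Q (e + f) = 1 := by
    rw [Q_add, hQe, hQf, hBef]; ring
  have hQa2 : Q (e + β • f) = β := by
    rw [Q_add, Q_smul, hQe, hQf, PAIRROT.B_smul_r, hBef]; ring
  have hQa1' : Q (e + f) ≠ 0 := by rw [hQa1]; exact one_ne_zero
  have hQa2' : Q (e + β • f) ≠ 0 := by rw [hQa2]; exact hβ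
  have hQn1' : Q n₁ ≠ 0 := by rw [hQ₁]; exact one_ne_zero
  have hQn2' : Q n₂ ≠ 0 := by rw [hQ₂]; exact hβ
  have ha1 : e + f ∈ D c := (D c).add_mem he hf
  have ha2 : e + β • f ∈ D c := (D c).add_mem he ((D c).smul_mem β hf)
  have hm1 := REFLMEM.mem hD ha1 hn₁ hQa1' hQn1' (hQa1.trans hQ₁.symm)
  have hm2 := REFLMEM.mem hD ha2 hn₂ hQa2' hQn2' (hQa2.trans hQ₂.symm)
  refine ⟨_, (HS D).mul_mem hm1 hm2, ?_, ?_, ?_⟩
  · -- `h e = β e`
    simp only [mt_mul_mulVec]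
    rw [PAIRROT.refl_fix hQn2' hn2e, reflO_mulVec (e + β • f) hQa2' e, hQa2,
      PAIRROT.B_add_l, PAIRROT.B_smul_l, hBee, hBfe]
    have e1 : e - (β⁻¹ * (0 + β * 1)) • (e + β • f) = (-β) • f := by
      have : β⁻¹ * (0 + β * 1) = 1 := by rw [zero_add, mul_one, inv_mul_cancel₀ hβ]
      rw [this]
      module
    rw [e1]
    have hn1f' : B (Q) n₁ ((-β) • f) = 0 := by
      rw [PAIRROT.B_smul_r, hn1f, mul_zero]
    rw [PAIRROT.refl_fix hQn1' hn1f', reflO_mulVec (e + f) hQa1', hQa1,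
      PAIRROT.B_smul_r, PAIRROT.B_add_l, hBef, hBff]
    module
  · -- `h f = β⁻¹ f`
    simp only [mt_mul_mulVec]
    rw [PAIRROT.refl_fix hQn2' hn2f, reflO_mulVec (e + β • f) hQa2' f, hQa2,
      PAIRROT.B_add_l, PAIRROT.B_smul_l, hBef, hBff]
    have e1 : f - (β⁻¹ * (1 + β * 0)) • (e + β • f) = (-β⁻¹) • e := by
      have : β⁻¹ * β = 1 := inv_mul_cancel₀ hβ
      have e2 : f - (β⁻¹ * (1 + β * 0)) • (e + β • f) = (-β⁻¹) • e + (1 - β⁻¹ * β) • f := by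
        module
      rw [e2, this, sub_self, zero_smul, add_zero]
    rw [e1]
    have hn1e' : B (Q) n₁ ((-β⁻¹) • e) = 0 := by
      rw [PAIRROT.B_smul_r, hn1e, mul_zero]
    rw [PAIRROT.refl_fix hQn1' hn1e', reflO_mulVec (e + f) hQa1', hQa1,
      PAIRROT.B_smul_r, PAIRROT.B_add_l, hBee, hBfe]
    module
  · intro x hex hfx hn1x hn2x
    have h1 : B (Q) (e + β • f) x = 0 := by
      rw [PAIRROT.B_add_l, PAIRROT.B_smul_l, hex, hfx]; ring
    have h1' : B (Q) (e + f) x = 0 := by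
      rw [PAIRROT.B_add_l, hex, hfx]; ring
    simp only [mt_mul_mulVec]
    rw [PAIRROT.refl_fix hQn2' hn2x, PAIRROT.refl_fix hQa2' h1,
      PAIRROT.refl_fix hQn1' hn1x, PAIRROT.refl_fix hQa1' h1']

end Cfsg.Agent.OC2K
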