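import Cfsg.Agent.Helper29.OC2K.Defs
import Cfsg.Agent.Helper29.OC2K.CMP2
import Cfsg.Agent.Helper29.OC2K.REFLMEM
import Cfsg.Agent.Helper29.OC2K.GP
import Cfsg.Agent.Helper29.OC2K.RADT

/-! S5677 piece X5NEG (driver helper29): `|F| = 5`, `d² = 1`: the `⟨a, a'⟩`-part of the `c`-component of
an element of `P = Rad M v` lies in `P` (use the element `r_a r_{ρ a'}`, which is `-1` on `⟨a, a'⟩`). -/

set_option autoImplicit false
set_option linter.unusedSectionVars false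
set_option linter.unusedVariables false

namespace Cfsg.Agent.OC2K

open Matrix Cfsg.Agent.Helper28.Sg Cfsg.Agent.Helper28.Spin Cfsg.Agent.Helper12.OrthGen
  Cfsg.Agent.S2614 Cfsg.Agent.S5683P Cfsg.Agent.Helper28.NDM

variable {F : Type*} [Field F] {t k : ℕ} {ι : Type} [Fintype ι] [DecidableEq ι] {Q : QuadraticForm F (ι → F)} [QHyp Q] {D : Fin t → Submodule F (ι → F)}
  {M : Subgroup (OGq Q)}

namespace X5NEG

theorem five_eq_zero' [Fintype F] (hq5 : Fintype.card F = 5) : (5 : F) = 0 := by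
  have h := Nat.cast_card_eq_zero F
  rw [hq5] at h
  exact_mod_cast h

/-- the action of a reflection -/
theorem reflO_mulVec' {a : ι → F} (hQa : Q a ≠ 0) (x : ι → F) :
    mt (Q) (reflO (Q) a hQa) *ᵥ x =
      x - ((Q a)⁻¹ * B (Q) a x) • a := by
  show ((reflO (Q) a hQa : Matrix.GeneralLinearGroup (ι) F) :
    Matrix (ι) (ι) F) *ᵥ x = _
  rw [reflO_val, Cfsg.Agent.Helper28.Spin.refl_mulVec]

/-- the product of the reflections in two orthogonal vectors -/
theorem prod_mulVec {a b : ι → F} (hQa : Q a ≠ 0) (hQb : Q b ≠ 0)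
    (hab : B (Q) a b = 0) (x : ι → F) :
    mt (Q) (reflO (Q) a hQa * reflO (Q) b hQb) *ᵥ x =
      x - ((Q a)⁻¹ * B (Q) a x) • a -
        ((Q b)⁻¹ * B (Q) b x) • b := by
  rw [mt_mul_mulVec, reflO_mulVec' hQb, reflO_mulVec' hQa]
  have h1 : B (Q) a (x - ((Q b)⁻¹ * B (Q) b x) • b) =
      B (Q) a x := by
    show QuadraticMap.polar ⇑(Q) a (x - ((Q b)⁻¹ * B (Q) b x) • b) = _
    rw [QuadraticMap.polar_sub_right, QuadraticMap.polar_smul_right]
    have : QuadraticMap.polar ⇑(Q) a b = 0 := hab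
    rw [this, smul_zero, sub_zero]
  rw [h1]
  abel

/-- the general statement: `ρ` with `Q a = Q (ρ a')` -/
theorem main [Fintype F] (h2 : (2 : F) ≠ 0) (hD : HD Q k D) (hHM : HS D ≤ M)
    (hG1 : ¬ G1 M D) {v : ι → F} (hv : NPV M D v) {c : Fin t}
    {a a' : ι → F} (ha : a ∈ D c) (ha' : a' ∈ D c) (hQa : Q a ≠ 0)
    (hQa' : Q a' ≠ 0) (hva : B (Q) v a = 0) (hva' : B (Q) v a' = 0)
    (haa' : B (Q) a a' = 0) {ρ : F} (hρ0 : ρ ≠ 0)
    (hρ : Q a = ρ ^ 2 * Q a')
    {y : ι → F} (hy : y ∈ Rad M v hv.Qv) {s α β : F}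
    (hyc : cmp D c y = s • cmp D c v + α • a + β • a') :
    α • a + β • a' ∈ Rad M v hv.Qv := by
  set b : ι → F := ρ • a' with hb
  have hbD : b ∈ D c := (D c).smul_mem ρ ha'
  have hQb : Q b = ρ ^ 2 * Q a' := by
    rw [hb, Q_smul]; ring
  have hQb0 : Q b ≠ 0 := by
    rw [hQb]; exact mul_ne_zero (pow_ne_zero 2 hρ0) hQa'
  have hab : B (Q) a b = 0 := B_smul_right_zero (Q) ρ haa'
  have hvb : B (Q) v b = 0 := B_smul_right_zero (Q) ρ hva'
  have hmem : reflO (Q) a hQa * reflO (Q) b hQb0 ∈ HS D :=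
    REFLMEM.mem hD ha hbD hQa hQb0 (by rw [hQb, hρ])
  have hfix : mt (Q) (reflO (Q) a hQa * reflO (Q) b hQb0) *ᵥ v = v := by
    rw [prod_mulVec hQa hQb0 hab, B_comm (Q) a v, hva, B_comm (Q) b v, hvb]
    simp
  have h1 := GP.one hHM hv.Qv hmem hfix hy
  rw [prod_mulVec hQa hQb0 hab] at h1
  -- the pairings of `y` with `a`, `b`
  have hBa : B (Q) a y = 2 * α * Q a := by
    rw [← CMP2.B_left hD ha y, hyc]
    show QuadraticMap.polar ⇑(Q) a (s • cmp D c v + α • a + β • a') = _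
    rw [QuadraticMap.polar_add_right, QuadraticMap.polar_add_right,
      QuadraticMap.polar_smul_right, QuadraticMap.polar_smul_right,
      QuadraticMap.polar_smul_right]
    have e1 : QuadraticMap.polar ⇑(Q) a (cmp D c v) = 0 := by
      have := CMP2.B_left hD ha v
      rw [B_comm (Q) a v, hva] at this
      exact this
    have e2 : QuadraticMap.polar ⇑(Q) a a = 2 * Q a := B_self (Q) a
    have e3 : QuadraticMap.polar ⇑(Q) a a' = 0 := haa'
    rw [e1, e2, e3]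
    simp only [smul_eq_mul]
    ring
  have hBb : B (Q) b y = 2 * β * ρ * Q a' := by
    rw [← CMP2.B_left hD hbD y, hyc]
    show QuadraticMap.polar ⇑(Q) (ρ • a') (s • cmp D c v + α • a + β • a') = _
    rw [QuadraticMap.polar_smul_left, QuadraticMap.polar_add_right, QuadraticMap.polar_add_right,
      QuadraticMap.polar_smul_right, QuadraticMap.polar_smul_right,
      QuadraticMap.polar_smul_right]
    have e1 : QuadraticMap.polar ⇑(Q) a' (cmp D c v) = 0 := by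
      have := CMP2.B_left hD ha' v
      rw [B_comm (Q) a' v, hva'] at this
      exact this
    have e2 : QuadraticMap.polar ⇑(Q) a' a' = 2 * Q a' := B_self (Q) a'
    have e3 : QuadraticMap.polar ⇑(Q) a' a = 0 := by
      rw [QuadraticMap.polar_comm]; exact haa'
    rw [e1, e2, e3]
    simp only [smul_eq_mul]
    ring
  rw [hBa, hBb, hQb] at h1
  have h3 : y - ((Q a)⁻¹ * (2 * α * Q a)) • a -
      ((ρ ^ 2 * Q a')⁻¹ * (2 * β * ρ * Q a')) • b - y =
      (-2 : F) • (α • a + β • a') := by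
    have c1 : (Q a)⁻¹ * (2 * α * Q a) = 2 * α := by
      field_simp
    have c2 : (ρ ^ 2 * Q a')⁻¹ * (2 * β * ρ * Q a') * ρ = 2 * β := by
      field_simp
    rw [c1, hb, smul_smul, c2]
    simp only [smul_add, smul_smul]
    rw [show (-2 : F) * α = -(2 * α) by ring, show (-2 : F) * β = -(2 * β) by ring, neg_smul,
      neg_smul]
    abel
  rw [h3] at h1
  have h4 := RADV.smul hD hHM hG1 hv h1 ((-2 : F)⁻¹)
  rw [smul_smul, inv_mul_cancel₀ (neg_ne_zero.2 h2), one_smul] at h4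
  exact h4

end X5NEG

/-- `|F| = 5`, `d² = 1`: `h₀ := r_a r_{ρ a'}` (`ρ² = d`: `ρ = 1` or `2`) is `-1` on `⟨a, a'⟩`, lies in
`HS D` (REFLMEM.mem) and fixes `v`; `h₀ y - y = -2 (α a + β a')` (GP.one, RADV.smul) -/
theorem X5NEG.mem [Fintype F] (h2 : (2 : F) ≠ 0) (hD : HD Q k D) (hHM : HS D ≤ M)
    (hG1 : ¬ G1 M D) (hq5 : Fintype.card F = 5) {v : ι → F} (hv : NPV M D v) {c : Fin t}
    {a a' : ι → F} (ha : a ∈ D c) (ha' : a' ∈ D c) (hQa : Q a ≠ 0)
    (hQa' : Q a' ≠ 0) (hva : B (Q) v a = 0) (hva' : B (Q) v a' = 0)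
    (haa' : B (Q) a a' = 0) (hd : (Q a' / Q a) ^ 2 = 1)
    {y : ι → F} (hy : y ∈ Rad M v hv.Qv) {s α β : F}
    (hyc : cmp D c y = s • cmp D c v + α • a + β • a') :
    α • a + β • a' ∈ Rad M v hv.Qv := by
  have h5 : (5 : F) = 0 := X5NEG.five_eq_zero' hq5
  rcases sq_eq_one_iff.1 hd with h1 | h1
  · -- d = 1, ρ = 1
    rw [div_eq_iff hQa, one_mul] at h1
    exact X5NEG.main h2 hD hHM hG1 hv ha ha' hQa hQa' hva hva' haa' (ρ := 1) one_ne_zero
      (by rw [h1]; ring) hy hyc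
  · -- d = -1, ρ = 2
    rw [div_eq_iff hQa] at h1
    exact X5NEG.main h2 hD hHM hG1 hv ha ha' hQa hQa' hva hva' haa' (ρ := 2) h2
      (by rw [h1]; linear_combination (Q a) * h5) hy hyc

end Cfsg.Agent.OC2K
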