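import Cfsg.Agent.Helper29.OC2K.Defs
import Cfsg.Agent.Helper29.OC2K.CMP1
import Cfsg.Agent.Helper29.OC2K.CMP2
import Cfsg.Agent.Helper29.OC2K.X5HYP
import Cfsg.Agent.Helper29.OC2K.PARTNER
import Cfsg.Agent.Helper29.OC2K.OB3
import Cfsg.Agent.Helper29.OC2K.UNIV
import Cfsg.Agent.Helper29.OC2K.GP
import Cfsg.Agent.Helper29.OC2K.PAIRROT
import Cfsg.Agent.Helper29.OC2K.X5NEG
import Cfsg.Agent.Helper29.OC2K.DEP

set_option autoImplicit false
set_option linter.unusedSectionVars false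
set_option linter.unusedVariables false

/-! # OC2K (S5677 route ported to a general form) piece LOC3X: LOC, case `k = 3`, `v_c` nonsingular, exceptional (`|F| = 5`, `d² = 1`) -/

namespace Cfsg.Agent.OC2K

open Matrix Cfsg.Agent.Helper28.Sg Cfsg.Agent.Helper28.Spin Cfsg.Agent.Helper12.OrthGen
  Cfsg.Agent.S2614 Cfsg.Agent.S5683P Cfsg.Agent.Helper28.NDM

variable {F : Type*} [Field F] {t k : ℕ} {ι : Type} [Fintype ι] [DecidableEq ι] {Q : QuadraticForm F (ι → F)} [QHyp Q] {D : Fin t → Submodule F (ι → F)}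
  {M : Subgroup (OGq Q)}

namespace LOC3X

theorem B_add_r (x y z : ι → F) :
    B (Q) x (y + z) = B (Q) x y + B (Q) x z :=
  QuadraticMap.polar_add_right _ _ _ _

theorem B_sub_r (x y z : ι → F) :
    B (Q) x (y - z) = B (Q) x y - B (Q) x z :=
  QuadraticMap.polar_sub_right _ _ _ _

theorem B_smul_r (x y : ι → F) (s : F) :
    B (Q) x (s • y) = s * B (Q) x y := by
  show QuadraticMap.polar _ x (s • y) = _
  rw [QuadraticMap.polar_smul_right]; rfl

theorem B_add_l (x y z : ι → F) :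
    B (Q) (x + y) z = B (Q) x z + B (Q) y z :=
  QuadraticMap.polar_add_left _ _ _ _

theorem B_smul_l (x y : ι → F) (s : F) :
    B (Q) (s • x) y = s * B (Q) x y := by
  show QuadraticMap.polar _ (s • x) y = _
  rw [QuadraticMap.polar_smul_left]; rfl

theorem three_ne_zero [Fintype F] (hq5 : Fintype.card F = 5) : (3 : F) ≠ 0 := by
  intro h3
  have h5 : ((Fintype.card F : ℕ) : F) = 0 := Nat.cast_card_eq_zero F
  rw [hq5] at h5
  have h5' : (5 : F) = 0 := by exact_mod_cast h5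
  have : (1 : F) = 0 := by linear_combination 2 * h3 - h5'
  exact one_ne_zero this

theorem mulVec_add' (g : OGq Q) (x y : ι → F) :
    mt (Q) g *ᵥ (x + y) = mt (Q) g *ᵥ x + mt (Q) g *ᵥ y :=
  Matrix.mulVec_add _ _ _

theorem mulVec_smul' (g : OGq Q) (s : F) (x : ι → F) :
    mt (Q) g *ᵥ (s • x) = s • (mt (Q) g *ᵥ x) :=
  Matrix.mulVec_smul _ _ _

end LOC3X

open LOC3X in
theorem LOC3X.loc [Fintype F] (h2 : (2 : F) ≠ 0) (hD : HD Q k D) (hHM : HS D ≤ M) (hG1 : ¬ G1 M D)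
    (hk : k = 3) (hq5 : Fintype.card F = 5) {v : ι → F} (hv : NPV M D v) {c : Fin t}
    (hQ : Q (cmp D c v) ≠ 0) {a a' : ι → F} (ha : a ∈ D c) (ha' : a' ∈ D c)
    (hQa : Q a ≠ 0) (hQa' : Q a' ≠ 0)
    (hza : B (Q) (cmp D c v) a = 0) (hza' : B (Q) (cmp D c v) a' = 0)
    (haa' : B (Q) a a' = 0)
    (hspan : ∀ x ∈ D c, B (Q) (cmp D c v) x = 0 → ∃ α β : F, x = α • a + β • a')
    (hd : (Q a' / Q a) ^ 2 = 1) {y : ι → F}
    (hy : y ∈ Rad M v hv.Qv) : ∃ s : F, cmp D c y = s • cmp D c v := by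
  classical
  set z := cmp D c v with hz
  have hzc : z ∈ D c := CMP1.mem hD c v
  have haz : B (Q) a z = 0 := by rw [B_comm]; exact hza
  have ha'z : B (Q) a' z = 0 := by rw [B_comm]; exact hza'
  have hav : B (Q) a v = 0 := by rw [← CMP2.B_left hD ha v]; exact haz
  have ha'v : B (Q) a' v = 0 := by rw [← CMP2.B_left hD ha' v]; exact ha'z
  -- the hyperbolic pair of the plane
  obtain ⟨e, f, p₁, q₁, p₂, q₂, r₁, s₁, r₂, s₂, he, hf, hae, ha'e, hp⟩ :=
    X5HYP.exists hq5 hQa hQa' haa' hd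
  have hec : e ∈ D c := by
    rw [he]; exact (D c).add_mem ((D c).smul_mem _ ha) ((D c).smul_mem _ ha')
  have hfc : f ∈ D c := by
    rw [hf]; exact (D c).add_mem ((D c).smul_mem _ ha) ((D c).smul_mem _ ha')
  have hev : B (Q) e v = 0 := by
    rw [he, B_add_l, B_smul_l, B_smul_l, hav, ha'v]; ring
  have hfv : B (Q) f v = 0 := by
    rw [hf, B_add_l, B_smul_l, B_smul_l, hav, ha'v]; ring
  -- the partner block
  obtain ⟨c', hc'c, hQc'⟩ := PARTNER.exists hD hv.Qv hQ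
  set z' := cmp D c' v with hz'
  have hz'c : z' ∈ D c' := CMP1.mem hD c' v
  obtain ⟨n, n', hn, hn', hQn, hQn', hz'n, hz'n', hnn', -⟩ := OB3.exists h2 hD hk hz'c hQc'
  have Qcomb : ∀ x₁ x₂ : F, Q (x₁ • n + x₂ • n') =
      Q n * x₁ ^ 2 + Q n' * x₂ ^ 2 := by
    intro x₁ x₂
    rw [Q_add, Q_smul, Q_smul, B_smul_l, B_smul_r, hnn']; ring
  have combv : ∀ x₁ x₂ : F, B (Q) (x₁ • n + x₂ • n') v = 0 := by
    intro x₁ x₂
    have h1 : B (Q) n v = 0 := by
      rw [← CMP2.B_left hD hn v, B_comm]; exact hz'n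
    have h1' : B (Q) n' v = 0 := by
      rw [← CMP2.B_left hD hn' v, B_comm]; exact hz'n'
    rw [B_add_l, B_smul_l, B_smul_l, h1, h1']; ring
  have combc : ∀ x₁ x₂ : F, x₁ • n + x₂ • n' ∈ D c' := fun x₁ x₂ =>
    (D c').add_mem ((D c').smul_mem _ hn) ((D c').smul_mem _ hn')
  obtain ⟨x₁, x₂, hx12⟩ := UNIV.exists h2 hQn hQn' (1 : F)
  obtain ⟨x₃, x₄, hx34⟩ := UNIV.exists h2 hQn hQn' (2 : F)
  set n₁ : ι → F := x₁ • n + x₂ • n' with hn₁
  set n₂ : ι → F := x₃ • n + x₄ • n' with hn₂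
  have hQn₁ : Q n₁ = 1 := by rw [hn₁, Qcomb]; exact hx12
  have hQn₂ : Q n₂ = 2 := by rw [hn₂, Qcomb]; exact hx34
  obtain ⟨h, hhHS, hhe, hhf, hhfix⟩ :=
    PAIRROT.exists h2 hD (Ne.symm hc'c) hec hfc hp (combc x₁ x₂) (combc x₃ x₄) h2 hQn₁ hQn₂
  have hfix : mt (Q) h *ᵥ v = v := hhfix v hev hfv (combv x₁ x₂) (combv x₃ x₄)
  -- decomposition of `y_c`
  have hBzz : B (Q) z z ≠ 0 := by
    rw [B_self]; exact mul_ne_zero h2 hQ
  set s : F := B (Q) z (cmp D c y) / B (Q) z z with hs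
  set y' : ι → F := cmp D c y - s • z with hy'
  have hy'c : y' ∈ D c := (D c).sub_mem (CMP1.mem hD c y) ((D c).smul_mem s hzc)
  have hzy' : B (Q) z y' = 0 := by
    rw [hy', B_sub_r, B_smul_r, hs]; field_simp; ring
  obtain ⟨α, β, hαβ⟩ := hspan y' hy'c hzy'
  have hyc : cmp D c y = s • cmp D c v + α • a + β • a' := by
    rw [add_assoc, ← hαβ, hy']; abel
  have hy'P : y' ∈ Rad M v hv.Qv := by
    rw [hαβ]
    exact X5NEG.mem h2 hD hHM hG1 hq5 hv ha ha' hQa hQa'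
      (by rw [B_comm]; exact hav) (by rw [B_comm]; exact ha'v) haa' hd hy hyc
  -- coordinates along `e, f`
  set y₁ : F := α * r₁ + β * r₂ with hy₁
  set y₂ : F := α * s₁ + β * s₂ with hy₂
  have hy'ef : y' = y₁ • e + y₂ • f := by
    rw [hαβ, hy₁, hy₂]
    conv_lhs => rw [hae, ha'e]
    module
  have hhy' : mt (Q) h *ᵥ y' = (y₁ * 2) • e + (y₂ * 2⁻¹) • f := by
    rw [hy'ef, mulVec_add', mulVec_smul', mulVec_smul', hhe, hhf, smul_smul, smul_smul]
  have hhy'c : mt (Q) h *ᵥ y' ∈ D c := by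
    rw [hhy']; exact (D c).add_mem ((D c).smul_mem _ hec) ((D c).smul_mem _ hfc)
  have hhy'P : mt (Q) h *ᵥ y' ∈ Rad M v hv.Qv := by
    have h1 := GP.one hHM hv.Qv hhHS hfix hy'P
    have h3 := (Rad M v hv.Qv).add_mem h1 hy'P
    rwa [sub_add_cancel] at h3
  obtain ⟨α', β', hne, hdep⟩ := DEP.dep h2 hD hHM hG1 hk hv hy'c hhy'c hy'P hhy'P
  -- pair the dependence with `f` and `e`
  have hdep' : ((α' + β' * 2) * y₁) • e + ((α' + β' * 2⁻¹) * y₂) • f = 0 := by
    rw [← hdep, hhy', hy'ef]; module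
  have hBee := hp.Bee
  have hBff := hp.Bff
  have hBef := hp.Bef
  have hBfe := hp.Bfe
  have e1 : (α' + β' * 2) * y₁ = 0 := by
    have := congrArg (fun w => B (Q) f w) hdep'
    beta_reduce at this
    rw [B_add_r, B_smul_r, B_smul_r, hBfe, hBff] at this
    have h0 : B (Q) f (0 : ι → F) = 0 := QuadraticMap.polar_zero_right _ _
    rw [h0] at this
    linear_combination this
  have e2 : (α' + β' * 2⁻¹) * y₂ = 0 := by
    have := congrArg (fun w => B (Q) e w) hdep'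
    beta_reduce at this
    rw [B_add_r, B_smul_r, B_smul_r, hBef, hBee] at this
    have h0 : B (Q) e (0 : ι → F) = 0 := QuadraticMap.polar_zero_right _ _
    rw [h0] at this
    linear_combination this
  have h3 := three_ne_zero hq5
  have hy12 : y₁ * y₂ = 0 := by
    by_contra hne0
    have hy₁0 : y₁ ≠ 0 := left_ne_zero_of_mul hne0
    have hy₂0 : y₂ ≠ 0 := right_ne_zero_of_mul hne0
    have f1 : α' + β' * 2 = 0 := (mul_eq_zero.mp e1).resolve_right hy₁0
    have f2 : α' + β' * 2⁻¹ = 0 := (mul_eq_zero.mp e2).resolve_right hy₂0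
    have f3 : β' * 3 = 0 := by
      have : β' * 2 * 2 = β' := by
        have h4 : β' * 2 = β' * 2⁻¹ := by linear_combination f1 - f2
        calc β' * 2 * 2 = β' * 2⁻¹ * 2 := by rw [h4]
          _ = β' := by rw [mul_assoc, inv_mul_cancel₀ h2, mul_one]
      linear_combination this
    have hβ'0 : β' = 0 := (mul_eq_zero.mp f3).resolve_right h3
    have hα'0 : α' = 0 := by rw [hβ'0] at f1; linear_combination f1
    rcases hne with h | h
    · exact h hα'0
    · exact h hβ'0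
  have hQy' : Q y' = 0 := by
    have h0 : B (Q) e (0 : ι → F) = 0 := QuadraticMap.polar_zero_right _ _
    have h0' : B (Q) f (0 : ι → F) = 0 := QuadraticMap.polar_zero_right _ _
    have := hp.Q_decomp y₁ y₂ h0 h0'
    rw [add_zero, QuadraticMap.map_zero, add_zero] at this
    rw [hy'ef, this, hy12]
  have hy'0 : y' = 0 := by
    by_contra hne0
    exact GP.two hD hHM hG1 hv hy'c hne0 hQy' hy'P
  refine ⟨s, ?_⟩
  have := hy'0
  rw [hy'] at this
  exact sub_eq_zero.mp this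

end Cfsg.Agent.OC2K
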