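import Cfsg.Agent.Helper29.OC2K.Defs
import Cfsg.Agent.Helper29.OC2K.SIEGMEM
import Cfsg.Agent.Helper29.OC2K.GP

set_option autoImplicit false
set_option linter.unusedSectionVars false
set_option linter.unusedVariables false

/-! # OC2K (S5677 route ported to a general form) piece PM: the `±`-trick with the block Siegel elements `E(u, ±w)` -/

namespace Cfsg.Agent.OC2K

open Matrix Cfsg.Agent.Helper28.Sg Cfsg.Agent.Helper28.Spin Cfsg.Agent.Helper12.OrthGen
  Cfsg.Agent.S2614 Cfsg.Agent.S5683P Cfsg.Agent.Helper28.NDM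

variable {F : Type*} [Field F] {t k : ℕ} {ι : Type} [Fintype ι] [DecidableEq ι] {Q : QuadraticForm F (ι → F)} [QHyp Q] {D : Fin t → Submodule F (ι → F)}
  {M : Subgroup (OGq Q)}

theorem PM.main (h2 : (2 : F) ≠ 0) (hD : HD Q k D) (hHM : HS D ≤ M) (hG1 : ¬ G1 M D)
    {v : ι → F} (hv : NPV M D v) {c : Fin t} {u w : ι → F} (hu : u ∈ D c) (hw : w ∈ D c)
    (hu0 : u ≠ 0) (hQu : Q u = 0) (huw : B (Q) u w = 0)
    (huv : B (Q) u v = 0) (hwv : B (Q) w v = 0) {y : ι → F}
    (hy : y ∈ Rad M v hv.Qv) :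
    Q w * B (Q) u y = 0 ∧ (B (Q) u y = 0 → B (Q) w y = 0) := by
  have huw' : B (Q) u (-w) = 0 := by rw [B_neg_right, huw, neg_zero]
  have hw' : -w ∈ D c := (D c).neg_mem hw
  have hwv' : B (Q) (-w) v = 0 := by
    rw [B_comm, B_neg_right, B_comm, hwv, neg_zero]
  have hp := SIEGMEM.mem hD hu hw hQu huw
  have hm := SIEGMEM.mem hD hu hw' hQu huw'
  have hfp : mt (Q) (siegO (Q) u w hQu huw) *ᵥ v = v := by
    rw [siegO_mulVec, huv, hwv]
    simp
  have hfm : mt (Q) (siegO (Q) u (-w) hQu huw') *ᵥ v = v := by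
    rw [siegO_mulVec, huv, hwv']
    simp
  have h1 := GP.one hHM hv.Qv hp hfp hy
  have h3 := GP.one hHM hv.Qv hm hfm hy
  have hBm : B (Q) (-w) y = - B (Q) w y := by
    rw [B_comm, B_neg_right, B_comm]
  have hQm : Q (-w) = Q w := by
    show (Q) (-w) = (Q) w
    exact QuadraticMap.map_neg _ w
  have e1 : mt (Q) (siegO (Q) u w hQu huw) *ᵥ y - y =
      B (Q) u y • w - B (Q) w y • u -
        (Q w * B (Q) u y) • u := by
    rw [siegO_mulVec]
    abel
  have e2 : mt (Q) (siegO (Q) u (-w) hQu huw') *ᵥ y - y =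
      - (B (Q) u y • w) + B (Q) w y • u -
        (Q w * B (Q) u y) • u := by
    rw [siegO_mulVec, hBm, hQm]
    simp only [smul_neg, neg_smul]
    abel
  have hsum := (Rad M v hv.Qv).add_mem h1 h3
  have e3 : (mt (Q) (siegO (Q) u w hQu huw) *ᵥ y - y) +
      (mt (Q) (siegO (Q) u (-w) hQu huw') *ᵥ y - y) =
      (-(2 * (Q w * B (Q) u y))) • u := by
    rw [e1, e2]
    module
  rw [e3] at hsum
  have h4 := GP.smul_zero hD hHM hG1 hv hu hu0 hQu hsum
  have h5 : Q w * B (Q) u y = 0 := by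
    have : 2 * (Q w * B (Q) u y) = 0 := by
      rw [neg_eq_zero] at h4
      exact h4
    rcases mul_eq_zero.1 this with h | h
    · exact absurd h h2
    · exact h
  refine ⟨h5, ?_⟩
  intro h6
  rw [e1, h6] at h1
  have e4 : (0 : F) • w - B (Q) w y • u - (Q w * 0) • u =
      (- B (Q) w y) • u := by
    module
  rw [e4] at h1
  have h7 := GP.smul_zero hD hHM hG1 hv hu hu0 hQu h1
  rw [neg_eq_zero] at h7
  exact h7

end Cfsg.Agent.OC2K
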