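import Cfsg.Agent.Helper29.OC2K.Defs
import Cfsg.Agent.Helper29.OC2K.PM
import Cfsg.Agent.Helper29.OC2K.CMP1
import Cfsg.Agent.Helper29.OC2K.CMP2
import Cfsg.Agent.Helper29.OC2K.GEOA
import Cfsg.Agent.Helper29.OC2K.GEOB
import Cfsg.Agent.Helper29.OC2K.BLK

set_option autoImplicit false
set_option linter.unusedSectionVars false
set_option linter.unusedVariables false

/-! # OC2K (S5677 route ported to a general form) piece LOCA: LOC at a block `c` with `v_c = 0` -/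

namespace Cfsg.Agent.OC2K

open Matrix Cfsg.Agent.Helper28.Sg Cfsg.Agent.Helper28.Spin Cfsg.Agent.Helper12.OrthGen
  Cfsg.Agent.S2614 Cfsg.Agent.S5683P Cfsg.Agent.Helper28.NDM

variable {F : Type*} [Field F] {t k : ℕ} {ι : Type} [Fintype ι] [DecidableEq ι] {Q : QuadraticForm F (ι → F)} [QHyp Q] {D : Fin t → Submodule F (ι → F)}
  {M : Subgroup (OGq Q)}

theorem LOCA.loc [Fintype F] (h2 : (2 : F) ≠ 0) (hD : HD Q k D) (hHM : HS D ≤ M) (hG1 : ¬ G1 M D)
    {v : ι → F} (hv : NPV M D v) {c : Fin t} (hvc : cmp D c v = 0) {y : ι → F}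
    (hy : y ∈ Rad M v hv.Qv) : cmp D c y = 0 := by
  by_contra hyc
  have hycm : cmp D c y ∈ D c := CMP1.mem hD c y
  obtain ⟨u, hu, hQu, huy⟩ := GEOA.sing_nonorth (D c) (BLK.ndon hD c) (BLK.three hD c) hycm hyc
  have hu0 : u ≠ 0 := by
    rintro rfl
    apply huy
    show QuadraticMap.polar _ 0 _ = 0
    exact QuadraticMap.polar_zero_left _ _
  obtain ⟨w, hw, huw, hQw⟩ := GEOB.nonsing_perp h2 (D c) (BLK.ndon hD c) (BLK.three hD c) hu hu0 hQu
  have hB0 : ∀ z ∈ D c, B (Q) z v = 0 := by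
    intro z hz
    rw [← CMP2.B_left hD hz v, hvc]
    show QuadraticMap.polar _ z 0 = 0
    exact QuadraticMap.polar_zero_right _ _
  obtain ⟨h1, -⟩ := PM.main h2 hD hHM hG1 hv hu hw hu0 hQu huw (hB0 u hu) (hB0 w hw) hy
  rcases mul_eq_zero.1 h1 with h | h
  · exact hQw h
  · apply huy
    rw [CMP2.B_left hD hu y]
    exact h

end Cfsg.Agent.OC2K
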