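import Cfsg.Agent.Helper29.OC2K.Defs

set_option autoImplicit false
set_option linter.unusedSectionVars false
set_option linter.unusedVariables false

/-! S5677 piece ROTEX (driver helper29): a point `(x, y)`, `x y ≠ 0`, on the conic `x² + d y² = 1`. -/

namespace Cfsg.Agent.OC2K

open Matrix Cfsg.Agent.Helper28.Sg Cfsg.Agent.Helper28.Spin Cfsg.Agent.Helper12.OrthGen
  Cfsg.Agent.S2614 Cfsg.Agent.S5683P Cfsg.Agent.Helper28.NDM

variable {F : Type*} [Field F] {t k : ℕ} {ι : Type} [Fintype ι] [DecidableEq ι] {Q : QuadraticForm F (ι → F)} [QHyp Q] {D : Fin t → Submodule F (ι → F)}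
  {M : Subgroup (OGq Q)}

namespace ROTEX

/-- the parametrisation of the conic -/
theorem of_param (h2 : (2 : F) ≠ 0) (d τ : F) (hτ : τ ≠ 0) (h1 : d * τ ^ 2 ≠ 1)
    (h1' : d * τ ^ 2 ≠ -1) : ∃ x y : F, x ≠ 0 ∧ y ≠ 0 ∧ x ^ 2 + d * y ^ 2 = 1 := by
  have hden : 1 + d * τ ^ 2 ≠ 0 := by
    intro h
    apply h1'
    linear_combination h
  have hnum : 1 - d * τ ^ 2 ≠ 0 := by
    intro h
    apply h1
    linear_combination -h
  refine ⟨(1 - d * τ ^ 2) / (1 + d * τ ^ 2), 2 * τ / (1 + d * τ ^ 2), ?_, ?_, ?_⟩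
  · exact div_ne_zero hnum hden
  · exact div_ne_zero (mul_ne_zero h2 hτ) hden
  · field_simp
    ring

/-- a good parameter exists when the field has at least `7` elements -/
theorem exists_param [Fintype F] (d : F) (hd : d ≠ 0) (hq : 7 ≤ Fintype.card F) :
    ∃ τ : F, τ ≠ 0 ∧ d * τ ^ 2 ≠ 1 ∧ d * τ ^ 2 ≠ -1 := by
  open Polynomial in
  classical
  let P : F[X] := Polynomial.C (d ^ 2) * Polynomial.X ^ 5 - Polynomial.X
  have hd2 : d ^ 2 ≠ 0 := pow_ne_zero 2 hd
  have hdeg : P.degree = 5 := by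
    show (Polynomial.C (d ^ 2) * Polynomial.X ^ 5 - Polynomial.X : F[X]).degree = 5
    rw [Polynomial.degree_sub_eq_left_of_degree_lt]
    · rw [Polynomial.degree_C_mul_X_pow 5 hd2]; rfl
    · rw [Polynomial.degree_C_mul_X_pow 5 hd2, Polynomial.degree_X]
      norm_num
  have hP0 : P ≠ 0 := by
    intro h
    rw [h, Polynomial.degree_zero] at hdeg
    exact absurd hdeg (by decide)
  have hnat : P.natDegree = 5 := Polynomial.natDegree_eq_of_degree_eq_some hdeg
  by_contra hcon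
  push Not at hcon
  apply hP0
  apply Polynomial.eq_zero_of_natDegree_lt_card_of_eval_eq_zero P (f := (id : F → F))
    Function.injective_id
  · intro τ
    show Polynomial.eval τ (Polynomial.C (d ^ 2) * Polynomial.X ^ 5 - Polynomial.X) = 0
    simp only [Polynomial.eval_sub, Polynomial.eval_mul, Polynomial.eval_C, Polynomial.eval_pow,
      Polynomial.eval_X]
    by_cases hτ : τ = 0
    · rw [hτ]; ring
    · by_cases h1 : d * τ ^ 2 = 1
      · have : d ^ 2 * τ ^ 5 - τ = τ * (d * τ ^ 2 - 1) * (d * τ ^ 2 + 1) := by ring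
        rw [this, h1]; ring
      · have h3 := hcon τ hτ h1
        have : d ^ 2 * τ ^ 5 - τ = τ * (d * τ ^ 2 - 1) * (d * τ ^ 2 + 1) := by ring
        rw [this, h3]; ring
  · rw [hnat]
    omega

end ROTEX

/-- a point `(x, y)`, `x y ≠ 0`, on the conic `x² + d y² = 1`: `x = (1 - dτ²)/(1 + dτ²)`,
`y = 2τ/(1 + dτ²)` with `τ ≠ 0`, `dτ² ≠ ±1` (at most 4 bad `τ ≠ 0`; for `q = 5`, `τ = 1`) -/
theorem ROTEX.exists [Fintype F] (h2 : (2 : F) ≠ 0) (d : F) (hd : d ≠ 0)
    (hq : 7 ≤ Fintype.card F ∨ (Fintype.card F = 5 ∧ d ^ 2 ≠ 1)) :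
    ∃ x y : F, x ≠ 0 ∧ y ≠ 0 ∧ x ^ 2 + d * y ^ 2 = 1 := by
  rcases hq with hq | ⟨hq5, hd1⟩
  · obtain ⟨τ, hτ, h1, h1'⟩ := ROTEX.exists_param d hd hq
    exact ROTEX.of_param h2 d τ hτ h1 h1'
  · refine ROTEX.of_param h2 d 1 one_ne_zero ?_ ?_
    · intro h
      apply hd1
      rw [one_pow, mul_one] at h
      rw [h, one_pow]
    · intro h
      apply hd1
      rw [one_pow, mul_one] at h
      rw [h]; ring

end Cfsg.Agent.OC2K
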