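import Cfsg.Agent.Helper29.OC2K.Defs
import Cfsg.Agent.Helper29.OC2K.LOCA
import Cfsg.Agent.Helper29.OC2K.LOCB1
import Cfsg.Agent.Helper29.OC2K.LOCB2
import Cfsg.Agent.Helper29.OC2K.OB3
import Cfsg.Agent.Helper29.OC2K.CMP1
import Cfsg.Agent.Helper29.OC2K.ROTEX
import Cfsg.Agent.Helper29.OC2K.LOC3G
import Cfsg.Agent.Helper29.OC2K.LOC3X

/-! S5677 piece LOC (helper21): every `y ∈ P = Rad M v` has `y_c ∈ F v_c` - assembly of the cases. -/

set_option autoImplicit false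
set_option linter.unusedSectionVars false
set_option linter.unusedVariables false

namespace Cfsg.Agent.OC2K

open Matrix Cfsg.Agent.Helper28.Sg Cfsg.Agent.Helper28.Spin Cfsg.Agent.Helper12.OrthGen
  Cfsg.Agent.S2614 Cfsg.Agent.S5683P Cfsg.Agent.Helper28.NDM

variable {F : Type*} [Field F] {t k : ℕ} {ι : Type} [Fintype ι] [DecidableEq ι] {Q : QuadraticForm F (ι → F)} [QHyp Q] {D : Fin t → Submodule F (ι → F)}
  {M : Subgroup (OGq Q)}

namespace LOC

/-- a finite field with `2 ≠ 0` and not of order `3` has order `5` or at least `7` -/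
theorem LOC.card_cases [Fintype F] (h2 : (2 : F) ≠ 0) (h3 : Fintype.card F ≠ 3) :
    Fintype.card F = 5 ∨ 7 ≤ Fintype.card F := by
  have h1 : 1 < Fintype.card F := Fintype.one_lt_card
  have hodd : Fintype.card F % 2 = 1 := by
    by_contra hcon
    have hev : Fintype.card F % 2 = 0 := by omega
    have hch : ringChar F = 2 := FiniteField.even_card_iff_char_two.2 hev
    apply h2
    have := ringChar.Nat.cast_ringChar (R := F)
    rw [hch] at this
    exact_mod_cast this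
  omega

end LOC

theorem LOC.loc [Fintype F] (h2 : (2 : F) ≠ 0) (hD : HD Q k D)
    (hex : ¬ (Fintype.card F = 3 ∧ k = 3)) (hHM : HS D ≤ M) (hG1 : ¬ G1 M D) {v : ι → F}
    (hv : NPV M D v) (c : Fin t) {y : ι → F} (hy : y ∈ Rad M v hv.Qv) :
    ∃ s : F, cmp D c y = s • cmp D c v := by
  by_cases hvc : cmp D c v = 0
  · refine ⟨0, ?_⟩
    rw [zero_smul]
    exact LOCA.loc h2 hD hHM hG1 hv hvc hy
  by_cases hQ : Q (cmp D c v) = 0
  · exact LOCB1.loc h2 hD hHM hG1 hv hvc hQ hy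
  by_cases hk4 : 4 ≤ k
  · exact LOCB2.loc h2 hD hHM hG1 hk4 hv hQ hy
  have hk : k = 3 := by
    have := hD.k3
    omega
  have hq3 : Fintype.card F ≠ 3 := fun h => hex ⟨h, hk⟩
  obtain ⟨a, a', ha, ha', hQa, hQa', hza, hza', haa', hspan⟩ :=
    OB3.exists h2 hD hk (CMP1.mem hD c v) hQ
  have hd0 : Q a' / Q a ≠ 0 := div_ne_zero hQa' hQa
  by_cases hexc : Fintype.card F = 5 ∧ (Q a' / Q a) ^ 2 = 1
  · exact LOC3X.loc h2 hD hHM hG1 hk hexc.1 hv hQ ha ha' hQa hQa' hza hza' haa' hspan hexc.2 hy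
  · have hq : 7 ≤ Fintype.card F ∨
        (Fintype.card F = 5 ∧ (Q a' / Q a) ^ 2 ≠ 1) := by
      rcases LOC.card_cases h2 hq3 with h5 | h7
      · right
        exact ⟨h5, fun h => hexc ⟨h5, h⟩⟩
      · left
        exact h7
    obtain ⟨p, q, hp, hq', hpq⟩ := ROTEX.exists h2 _ hd0 hq
    exact LOC3G.loc h2 hD hHM hG1 hk hv hQ ha ha' hQa hQa' hza hza' haa' hspan hp hq' hpq hy

end Cfsg.Agent.OC2K
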