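import Mathlib

set_option autoImplicit false

/-! S5677 piece SQGEN (driver helper29): field arithmetic. -/

namespace Cfsg.Agent.OC2K

/-- an additive subgroup of `K` containing `κ s²` for all `s` is everything
(`x = κ ((y+1)/2)² - κ ((y-1)/2)²`, `y = x/κ`) -/
theorem SQGEN.top {K : Type*} [Field K] (h2 : (2 : K) ≠ 0) (A : AddSubgroup K) {κ : K}
    (hκ : κ ≠ 0) (h : ∀ s : K, κ * s ^ 2 ∈ A) (x : K) : x ∈ A := by
  have e : x = κ * ((x / κ + 1) / 2) ^ 2 - κ * ((x / κ - 1) / 2) ^ 2 := by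
    field_simp
    ring
  rw [e]
  exact A.sub_mem (h _) (h _)

end Cfsg.Agent.OC2K
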