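import Cfsg.Agent.Helper29.OC2K.Defs2
import Cfsg.Agent.Helper29.OC2K.LINKS
import Cfsg.Agent.Helper29.OC2K.SEED
import Cfsg.Agent.Helper29.OC2K.SWAP
import Cfsg.Agent.Helper29.OC2K.CYC3
import Cfsg.Agent.Helper29.OC2K.UPERP
import Cfsg.Agent.Helper29.OC2K.ALLLINK
import Cfsg.Agent.Helper29.OC2K.X5HYP
import Cfsg.Agent.Helper29.OC2K.X5NEG
import Cfsg.Agent.Helper29.OC2K.LOCB1
import Cfsg.Agent.Helper29.OC2K.LOCB2
import Cfsg.Agent.Helper29.OC2K.DEP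
import Cfsg.Agent.Helper29.OC2K.DIM3T
import Cfsg.Agent.Helper29.OC2K.RADT
import Cfsg.Agent.Helper29.OC2K.BLK
import Cfsg.Agent.Helper29.OC2K.BRIDGEHD
import Cfsg.Agent.Helper29.OC2K.PROPER
import Cfsg.Agent.Helper29.OC2K.STEP0
import Cfsg.Agent.Helper29.OC2K.CMP1
import Cfsg.Agent.Helper29.OC2K.CMP2
import Cfsg.Agent.Helper29.OC2K.LOC
import Cfsg.Agent.Helper29.OC2K.PAIRROT
import Cfsg.Agent.Helper29.OC2K.SPREAD
import Cfsg.Agent.Helper29.OC2K.GEOA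
import Cfsg.Agent.Helper29.OC2K.PMB
import Cfsg.Agent.Helper29.OC2K.SPREAD1
import Cfsg.Agent.Helper29.OC2K.STAB
import Cfsg.Agent.Helper29.OC2K.OB3
import Cfsg.Agent.Helper29.OC2K.REFLMEM
import Cfsg.Agent.Helper29.OC2K.ROTEIG
import Cfsg.Agent.Helper29.OC2K.SIEGMEM
import Cfsg.Agent.Helper29.OC2K.GEOB
import Cfsg.Agent.Helper29.OC2K.GEOC
import Cfsg.Agent.Helper29.OC2K.LSUB
import Cfsg.Agent.Helper29.OC2K.SQGEN
import Cfsg.Agent.Helper29.OC2K.FULLRAD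
import Cfsg.Agent.Helper29.OC2K.LINKCONJ
import Cfsg.Agent.Helper29.OC2K.LOCA
import Cfsg.Agent.Helper29.OC2K.PM
import Cfsg.Agent.Helper29.OC2K.FIN
import Cfsg.Agent.Helper29.OC2K.GP
import Cfsg.Agent.Helper29.OC2K.LOC3G
import Cfsg.Agent.Helper29.OC2K.LOC3X
import Cfsg.Agent.Helper29.OC2K.PARTNER
import Cfsg.Agent.Helper29.OC2K.ROTEX
import Cfsg.Agent.Helper29.OC2K.UNIV

/-! # S5677: import hub of the 47 pieces (board `s5677pieces`) -/
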