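import Cfsg.Agent.Helper28.NondegMax6
import Cfsg.Agent.Helper28.NonMax
import Cfsg.Agent.Helper28.OrthMax3

set_option autoImplicit false
set_option linter.unusedSectionVars false
set_option linter.unusedVariables false

/-! # OC2K, the case `t = 2`: the stabiliser of an orthogonal decomposition `V = D 0 ⟂ D 1` into two
isometric nondegenerate subspaces of dimension `k ≥ 7` is maximal in `Ω(Q)` (all characteristics);
a corollary of the core `NDM.Ctx.main` of the `C1` maximality theorem (helper28). -/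

namespace Cfsg.Agent.OC2K

open Matrix Module Cfsg.Agent.Helper28.Sg Cfsg.Agent.Helper28.Spin Cfsg.Agent.Helper28.NDM
  Cfsg.Agent.Helper28.OFN Cfsg.Agent.Helper28.PDN

namespace T2

variable {F : Type*} [Field F] [Fintype F] {ι : Type} [Fintype ι] [DecidableEq ι]
  {Q : QuadraticForm F (ι → F)}

theorem toLin_injective (g : ↥(Cfsg.isometryGroup F ⇑Q)) :
    Function.Injective (Matrix.toLin' (mt Q g)) := by
  intro x y hxy
  simp only [Matrix.toLin'_apply] at hxy
  have := congrArg (fun z => mt Q g⁻¹ *ᵥ z) hxy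
  simpa only [mt_inv_mulVec] using this

/-- an isometry mapping each of the two blocks into a block, along a permutation, stabilises `D` -/
theorem of_perm {k : ℕ} {D : Fin 2 → Submodule F (ι → F)} (hrank : ∀ i, finrank F (D i) = k)
    {g : ↥(Cfsg.isometryGroup F ⇑Q)} (σ : Equiv.Perm (Fin 2))
    (h : ∀ i, ∀ x ∈ D i, mt Q g *ᵥ x ∈ D (σ i)) :
    ((g : ↥(Cfsg.isometryGroup F ⇑Q)) : GL ι F) ∈ Cfsg.Geo.decompositionStabilizer D := by
  refine ⟨σ, fun i => ?_⟩
  have hle : (D i).map (Matrix.toLin' (mt Q g)) ≤ D (σ i) := by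
    rintro _ ⟨x, hx, rfl⟩
    simp only [Matrix.toLin'_apply]
    exact h i x hx
  apply Submodule.eq_of_le_of_finrank_eq hle
  rw [hrank (σ i), ← hrank i]
  exact (Submodule.equivMapOfInjective _ (toLin_injective g) (D i)).finrank_eq.symm

end T2

variable {F : Type*} [Field F] [Fintype F] {ι : Type} [Fintype ι] [DecidableEq ι]

/-- **`t = 2`**: the stabiliser of `V = D 0 ⟂ D 1` (isometric nondegenerate blocks of dimension
`k ≥ 7`) is maximal in `Ω(Q)` -/
theorem T2.maximal (Q : QuadraticForm F (ι → F)) (hQ : (QuadraticMap.polarBilin Q).Nondegenerate)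
    (hn : 13 ≤ Fintype.card ι) {k : ℕ} (hk : 7 ≤ k) {D : Fin 2 → Submodule F (ι → F)}
    (hD : Cfsg.Geo.IsOrthogonalMDecomposition (⇑Q) k D) :
    Cfsg.Geo.IsMaximalIn (Cfsg.Geo.omegaGL ⇑Q)
      (Cfsg.Geo.decompositionStabilizer D ⊓ Cfsg.Geo.omegaGL ⇑Q) := by
  classical
  obtain ⟨fr⟩ := Cfsg.Agent.Helper28.OM.exists_frame3 hQ (by omega)
  have hgen := Cfsg.Agent.Helper28.OM.hgen_all (F := F) hQ (by omega : Fintype.card ι ≠ 4)
  have hcard : Fintype.card F ≠ 2 ∨ Fintype.card ι ≠ 4 := Or.inr (by omega)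
  have hdec := hD.decomp.decomp
  have hrank : ∀ i, finrank F (D i) = k := hdec.finrank_eq
  have orth : ∀ w ∈ D 0, ∀ a ∈ D 1, B Q w a = 0 := fun w hw a ha =>
    hD.decomp.orthogonal 0 1 (by decide) w hw a ha
  have hsup : D 0 ⊔ D 1 = ⊤ := by
    rw [← hdec.iSup_eq_top]
    apply le_antisymm
    · exact sup_le (le_iSup D 0) (le_iSup D 1)
    · apply iSup_le
      intro i
      fin_cases i
      · exact le_sup_left
      · exact le_sup_right
  have dec : ∀ x : ι → F, ∃ w ∈ D 0, ∃ a ∈ D 1, x = w + a := by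
    intro x
    have hx : x ∈ D 0 ⊔ D 1 := by rw [hsup]; exact Submodule.mem_top
    obtain ⟨w, hw, a, ha, h⟩ := Submodule.mem_sup.1 hx
    exact ⟨w, hw, a, ha, h.symm⟩
  have nd : ∀ i, NDon Q (D i) := by
    intro i x hx hx0
    obtain ⟨-, y, hy, hne⟩ := hD.decomp.nondegenerate i x hx hx0
    exact ⟨y, hy, hne⟩
  have ndW := nd 0
  have ndA := nd 1
  have hW0 : D 0 ≠ ⊥ := by
    intro h
    have := hrank 0
    rw [h, finrank_bot] at this
    omega
  have hexW : ¬ (Fintype.card F ≤ 3 ∧ HypPlane Q (D 0)) := by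
    rintro ⟨-, hp⟩
    have := hp.finrank_eq
    rw [hrank 0] at this
    omega
  -- an isometry preserving `D 1` preserves `D 0`, and conversely
  have hWA : ∀ g : ↥(Cfsg.isometryGroup F ⇑Q), (∀ w ∈ D 0, mt Q g *ᵥ w ∈ D 0) →
      ∀ a ∈ D 1, mt Q g *ᵥ a ∈ D 1 := fun g h => stab_transfer orth dec ndW g h
  have hAW : ∀ g : ↥(Cfsg.isometryGroup F ⇑Q), (∀ a ∈ D 1, mt Q g *ᵥ a ∈ D 1) →
      ∀ w ∈ D 0, mt Q g *ᵥ w ∈ D 0 :=
    fun g h => stab_transfer (orth_symm orth) (dec_symm dec) ndA g h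
  have hstab : ∀ g : ↥(Cfsg.isometryGroup F ⇑Q), (∀ w ∈ D 0, mt Q g *ᵥ w ∈ D 0) →
      ((g : ↥(Cfsg.isometryGroup F ⇑Q)) : GL ι F) ∈ Cfsg.Geo.decompositionStabilizer D := by
    intro g h
    refine T2.of_perm hrank 1 ?_
    intro i x hx
    fin_cases i
    · exact h x hx
    · exact hWA g h x hx
  -- an isometry mapping `D 1` into `D 0` maps `D 0` into `D 1`
  have hswap : ∀ g : ↥(Cfsg.isometryGroup F ⇑Q), (∀ a ∈ D 1, mt Q g *ᵥ a ∈ D 0) →
      ∀ w ∈ D 0, mt Q g *ᵥ w ∈ D 1 := by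
    intro g h w hw
    apply mem_A_of_perp orth dec ndW
    intro w' hw'
    -- `w' = g a` for some `a ∈ D 1`, as `g (D 1) = D 0` by dimension
    have hle : (D 1).map (Matrix.toLin' (mt Q g)) ≤ D 0 := by
      rintro _ ⟨x, hx, rfl⟩
      simp only [Matrix.toLin'_apply]
      exact h x hx
    have heq : (D 1).map (Matrix.toLin' (mt Q g)) = D 0 := by
      apply Submodule.eq_of_le_of_finrank_eq hle
      rw [hrank 0, ← hrank 1]
      exact (Submodule.equivMapOfInjective _ (T2.toLin_injective g) (D 1)).finrank_eq.symm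
    rw [← heq] at hw'
    obtain ⟨a, ha, rfl⟩ := hw'
    simp only [Matrix.toLin'_apply]
    rw [B_isom Q g a w, B_comm]
    exact orth w hw a ha
  refine ⟨lt_of_le_of_ne inf_le_right ?_, ?_⟩
  · intro heq
    obtain ⟨w₁, hw₁W, hw₁0⟩ := Submodule.exists_mem_ne_zero_of_ne_bot hW0
    obtain ⟨u, huA, hu0, hQu⟩ := exists_singular_in Q (D 1) (by rw [hrank 1]; omega)
    obtain ⟨u', hu'A, hQu', huu'⟩ := exists_partner_in Q (D 1) ndA.geo u huA hu0 hQu
    have huw₁ : B Q u w₁ = 0 := by rw [B_comm]; exact orth w₁ hw₁W u huA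
    obtain ⟨s, hs⟩ : ∃ s, s = siegO Q u w₁ hQu huw₁ := ⟨_, rfl⟩
    have hsΩ : s ∈ Cfsg.Omega F ⇑Q := by
      rw [hs]; exact S_le_Omega hQ fr (siegO_mem_S Q _ _ _ _)
    have h1 : ((s : ↥(Cfsg.isometryGroup F ⇑Q)) : GL ι F) ∈
        Cfsg.Geo.decompositionStabilizer D ⊓ Cfsg.Geo.omegaGL ⇑Q := by
      rw [heq]
      exact (Cfsg.Agent.Helper28.NM.mem_omegaGL_iff Q _).mpr ⟨s, hsΩ, rfl⟩
    obtain ⟨σ, hσ⟩ := h1.1
    -- the image of `u'` lies in `D (σ 1)`
    have h3 : mt Q s *ᵥ u' ∈ D (σ 1) := by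
      rw [← hσ 1]
      exact ⟨u', hu'A, by simp only [Matrix.toLin'_apply]⟩
    rw [hs, siegO_mulVec, huu', orth w₁ hw₁W u' hu'A] at h3
    simp only [one_smul, zero_smul, sub_zero, mul_one] at h3
    -- `h3 : u' + w₁ - Q w₁ • u ∈ D (σ 1)`
    have hinter : ∀ x, x ∈ D 0 → x ∈ D 1 → x = 0 := by
      intro x hx0 hx1
      by_contra h0
      obtain ⟨y, hy, hne⟩ := ndW x hx0 h0
      exact hne (by rw [B_comm]; exact orth y hy x hx1)
    have hcase : σ 1 = 0 ∨ σ 1 = 1 := by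
      generalize σ 1 = j
      fin_cases j
      · left; rfl
      · right; rfl
    rcases hcase with h0 | h1'
    · rw [h0] at h3
      -- `u' - Q w₁ • u ∈ D 0 ∩ D 1`
      have h4 : u' - Q w₁ • u ∈ D 0 := by
        have : u' - Q w₁ • u = (u' + w₁ - Q w₁ • u) - w₁ := by abel
        rw [this]; exact (D 0).sub_mem h3 hw₁W
      have h5 : u' - Q w₁ • u ∈ D 1 := (D 1).sub_mem hu'A ((D 1).smul_mem _ huA)
      have h6 := hinter _ h4 h5
      have h7 : B Q u (u' - Q w₁ • u) = 1 := by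
        rw [B_sub_right', huu']
        simp [B, QuadraticMap.polar_smul_right, QuadraticMap.polar_self, hQu]
      rw [h6] at h7
      simp [B] at h7
    · rw [h1'] at h3
      have hw₁A : w₁ ∈ D 1 := by
        have h4 : w₁ = (u' + w₁ - Q w₁ • u) - u' + Q w₁ • u := by abel
        rw [h4]; exact (D 1).add_mem ((D 1).sub_mem h3 hu'A) ((D 1).smul_mem _ huA)
      exact hw₁0 (hinter _ hw₁W hw₁A)
  · intro M hPM hMS
    by_cases hMP : M ≤ Cfsg.Geo.decompositionStabilizer D ⊓ Cfsg.Geo.omegaGL ⇑Q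
    · left; exact le_antisymm hMP hPM
    right
    refine le_antisymm hMS ?_
    obtain ⟨g, hgM, hgP⟩ := SetLike.not_le_iff_exists.mp hMP
    have hgD : g ∉ Cfsg.Geo.decompositionStabilizer D := fun h => hgP ⟨h, hMS hgM⟩
    obtain ⟨g₀, hg₀Ω, rfl⟩ := (Cfsg.Agent.Helper28.NM.mem_omegaGL_iff Q _).mp (hMS hgM)
    have hgA : ¬ ∀ a ∈ D 1, mt Q g₀ *ᵥ a ∈ D 1 := by
      intro h
      exact hgD (hstab g₀ (hAW g₀ h))
    have hns : ¬ ∀ a ∈ D 1, mt Q g₀⁻¹ *ᵥ a ∈ D 0 := by
      intro h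
      have h' := hswap g₀⁻¹ h
      -- `g₀⁻¹` swaps the blocks, so it stabilises `D`, and so does `g₀`
      have hinv : ((g₀⁻¹ : ↥(Cfsg.isometryGroup F ⇑Q)) : GL ι F) ∈
          Cfsg.Geo.decompositionStabilizer D := by
        refine T2.of_perm hrank (Equiv.swap 0 1) ?_
        intro i x hx
        fin_cases i
        · simpa using h' x hx
        · simpa using h x hx
      have := (Cfsg.Geo.decompositionStabilizer D).inv_mem hinv
      apply hgD
      simpa using this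
    have ctx : Ctx Q (D 0) (D 1) (M.comap (Cfsg.isometryGroup F ⇑Q).subtype) :=
      { hQ := hQ
        orth := orth
        dec := dec
        ndW := ndW
        ndA := ndA
        siegΩ := fun u v hu huv => S_le_Omega hQ fr (siegO_mem_S Q _ _ _ _)
        reflΩ := fun x y hx hy hxy =>
          Cfsg.Agent.Helper28.OC.reflO_mul_mem_Omega Q hQ hcard x y hx hy hxy
        hP := by
          intro h hhΩ hhW
          apply hPM
          exact ⟨hstab h hhW, (Cfsg.Agent.Helper28.NM.mem_omegaGL_iff Q _).mpr ⟨h, hhΩ, rfl⟩⟩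
        hirr := fun S hSW hS0 hR hSg => irr_refl hQ (D 0) ndW hexW S hSW hS0 hR hSg }
    have key : Cfsg.Omega F ⇑Q ≤ M.comap (Cfsg.isometryGroup F ⇑Q).subtype :=
      ctx.main fr hgen (by rw [hrank 1]; exact hk) hW0 (g₀ := g₀) hgM hgA hns
    unfold Cfsg.Geo.omegaGL
    rw [Subgroup.map_le_iff_le_comap]
    exact key

end Cfsg.Agent.OC2K
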