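import Cfsg.Agent.Helper29.OC2K.Final
import Cfsg.Agent.Helper29.OC2K.T2

set_option autoImplicit false
set_option linter.unusedSectionVars false
set_option linter.unusedVariables false

/-! # OC2K: the decomposition stabilisers `O_k(q) ≀ S_t` with `k ≥ 3`, `q` odd, are maximal in `Ω(Q)`
for every nondegenerate quadratic form in dimension `≥ 13` (all `t ≥ 2`), unless `q = k = 3`. -/

namespace Cfsg.Agent.OC2K

open Matrix Module

variable {F : Type*} [Field F] [Fintype F] {ι : Type} [Fintype ι] [DecidableEq ι]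

/-- `t = 2`, function-valued form -/
theorem T2.maximal_fun (Q₀ : (ι → F) → F) (hQ₀ : Cfsg.Geo.IsNondegenerateQuadraticForm Q₀)
    (hn : 13 ≤ Fintype.card ι) {k : ℕ} (hk : 7 ≤ k) {D : Fin 2 → Submodule F (ι → F)}
    (hD : Cfsg.Geo.IsOrthogonalMDecomposition Q₀ k D) :
    Cfsg.Geo.IsMaximalIn (Cfsg.Geo.omegaGL Q₀)
      (Cfsg.Geo.decompositionStabilizer D ⊓ Cfsg.Geo.omegaGL Q₀) :=
  T2.maximal (Cfsg.Agent.Helper28.NM.ofFun Q₀ hQ₀) (Cfsg.Agent.Helper28.NM.ofFun_nondeg Q₀ hQ₀)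
    hn hk hD

/-- **`k ≥ 3`, `q` odd, all `t`** -/
theorem K3ODD.maximal_fun (Q₀ : (ι → F) → F) (hQ₀ : Cfsg.Geo.IsNondegenerateQuadraticForm Q₀)
    (h2 : (2 : F) ≠ 0) (hn : 13 ≤ Fintype.card ι) {t k : ℕ} (hk : 3 ≤ k)
    {D : Fin t → Submodule F (ι → F)}
    (hD : Cfsg.Geo.IsOrthogonalMDecomposition Q₀ k D)
    (hex : ¬ (Fintype.card F = 3 ∧ k = 3)) :
    Cfsg.Geo.IsMaximalIn (Cfsg.Geo.omegaGL Q₀)
      (Cfsg.Geo.decompositionStabilizer D ⊓ Cfsg.Geo.omegaGL Q₀) := by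
  classical
  have hdec := hD.decomp.decomp
  have ht2 := hdec.two_le
  by_cases ht : 3 ≤ t
  · exact FINAL.maximal_fun Q₀ hQ₀ h2 (by omega) hk ht hD hex
  · obtain rfl : t = 2 := by omega
    have hkt : 2 * k = Fintype.card ι := by
      have h1 := BRIDGEHD.finrank_eq_sum D hdec.indep hdec.iSup_eq_top
      rw [Module.finrank_fintype_fun_eq_card] at h1
      simp only [hdec.finrank_eq, Finset.sum_const, Finset.card_univ, Fintype.card_fin,
        smul_eq_mul] at h1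
      omega
    exact T2.maximal_fun Q₀ hQ₀ hn (by omega) hD

end Cfsg.Agent.OC2K
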