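import Cfsg.Agent.Helper29.OC2K.Main
import Cfsg.Agent.Helper28.NonMax
import Cfsg.Agent.Helper28.OrthMax3

set_option autoImplicit false
set_option linter.unusedSectionVars false
set_option linter.unusedVariables false

/-! # OC2K: from the dichotomy to the maximality statement (general quadratic form, `2 ≠ 0`,
blocks of dimension `k ≥ 3`, `t ≥ 3` blocks) -/

namespace Cfsg.Agent.OC2K

open Matrix Cfsg.Agent.Helper28.Sg Cfsg.Agent.Helper28.Spin Cfsg.Agent.Helper12.OrthGen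
  Cfsg.Agent.Helper28.NDM

namespace FINAL

section std

variable {F : Type*} [Field F] {t k : ℕ} {ι : Type} [Fintype ι] [DecidableEq ι]
  {Q : QuadraticForm F (ι → F)} [QHyp Q] {D : Fin t → Submodule F (ι → F)}

/-- maximality, under the class hypothesis `QHyp Q` -/
theorem maximal_std [Fintype F] (h2 : (2 : F) ≠ 0) (hD : HD Q k D)
    (hex : ¬ (Fintype.card F = 3 ∧ k = 3)) :
    Cfsg.Geo.IsMaximalIn (Cfsg.Geo.omegaGL ⇑Q)
      (Cfsg.Geo.decompositionStabilizer D ⊓ Cfsg.Geo.omegaGL ⇑Q) := by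
  classical
  refine ⟨lt_of_le_of_ne inf_le_right ?_, ?_⟩
  · intro heq
    obtain ⟨g, hgS, hgN⟩ := PROPER.exists h2 hD
    apply hgN
    have hgΩ : ((g : OGq Q) : Matrix.GeneralLinearGroup ι F) ∈
        Cfsg.Geo.omegaGL ⇑Q := by
      rw [Cfsg.Agent.Helper28.NM.mem_omegaGL_iff]
      exact ⟨g, by rw [QHyp.om (Q := Q)]; exact hgS, rfl⟩
    rw [← heq] at hgΩ
    exact hgΩ.1
  · intro M hHM hMS
    set M' : Subgroup (OGq Q) := M.comap (Cfsg.isometryGroup F ⇑Q).subtype with hM'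
    have hHM' : HS D ≤ M' := by
      intro g hg
      rw [mem_HS] at hg
      show ((g : OGq Q) : Matrix.GeneralLinearGroup ι F) ∈ M
      apply hHM
      refine Subgroup.mem_inf.2 ⟨hg.1, ?_⟩
      rw [Cfsg.Agent.Helper28.NM.mem_omegaGL_iff]
      exact ⟨g, by rw [QHyp.om (Q := Q)]; exact hg.2, rfl⟩
    rcases MAIN.dichotomy h2 trivial hD hex hHM' with hall | hall
    · left
      apply le_antisymm _ hHM
      intro g hg
      refine Subgroup.mem_inf.2 ⟨?_, hMS hg⟩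
      obtain ⟨h, hhΩ, rfl⟩ := (Cfsg.Agent.Helper28.NM.mem_omegaGL_iff Q g).mp (hMS hg)
      exact hall (show h ∈ M' from hg)
    · right
      apply le_antisymm hMS
      intro g hg
      obtain ⟨h, hhΩ, rfl⟩ := (Cfsg.Agent.Helper28.NM.mem_omegaGL_iff Q g).mp hg
      rw [QHyp.om (Q := Q)] at hhΩ
      exact hall hhΩ

end std

variable {F : Type*} [Field F] [Fintype F] {t k : ℕ} {ι : Type} [Fintype ι] [DecidableEq ι]

/-- **the decomposition stabilisers `O_k(q) ≀ S_t`, `k, t ≥ 3`, `q` odd, are maximal in `Ω(Q)`**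
(`Q` any nondegenerate quadratic form in dimension `≥ 8`), unless `q = k = 3` -/
theorem maximal (Q : QuadraticForm F (ι → F)) (hQ : (QuadraticMap.polarBilin Q).Nondegenerate)
    (h2 : (2 : F) ≠ 0) (hn : 8 ≤ Fintype.card ι) (hk : 3 ≤ k) (ht : 3 ≤ t)
    {D : Fin t → Submodule F (ι → F)}
    (hD : Cfsg.Geo.IsOrthogonalMDecomposition (⇑Q) k D)
    (hex : ¬ (Fintype.card F = 3 ∧ k = 3)) :
    Cfsg.Geo.IsMaximalIn (Cfsg.Geo.omegaGL ⇑Q)
      (Cfsg.Geo.decompositionStabilizer D ⊓ Cfsg.Geo.omegaGL ⇑Q) := by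
  classical
  obtain ⟨fr⟩ := Cfsg.Agent.Helper28.OM.exists_frame3 hQ hn
  have : QHyp Q :=
    ⟨hQ, Omega_eq_S hQ fr (Cfsg.Agent.Helper28.OM.hgen_all hQ (by omega))⟩
  exact maximal_std h2 (BRIDGEHD.hd hk ht hD) hex

/-- the same for a function-valued nondegenerate quadratic form -/
theorem maximal_fun (Q₀ : (ι → F) → F) (hQ₀ : Cfsg.Geo.IsNondegenerateQuadraticForm Q₀)
    (h2 : (2 : F) ≠ 0) (hn : 8 ≤ Fintype.card ι) (hk : 3 ≤ k) (ht : 3 ≤ t)
    {D : Fin t → Submodule F (ι → F)}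
    (hD : Cfsg.Geo.IsOrthogonalMDecomposition Q₀ k D)
    (hex : ¬ (Fintype.card F = 3 ∧ k = 3)) :
    Cfsg.Geo.IsMaximalIn (Cfsg.Geo.omegaGL Q₀)
      (Cfsg.Geo.decompositionStabilizer D ⊓ Cfsg.Geo.omegaGL Q₀) :=
  maximal (Cfsg.Agent.Helper28.NM.ofFun Q₀ hQ₀) (Cfsg.Agent.Helper28.NM.ofFun_nondeg Q₀ hQ₀)
    h2 hn hk ht hD hex

end FINAL

end Cfsg.Agent.OC2K
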