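import Cfsg.Agent.Helper29.OC2K.Full


set_option autoImplicit false
set_option linter.unusedSectionVars false
set_option linter.unusedVariables false

/-! # S5677: the dichotomy for overgroups of the decomposition stabiliser -/

namespace Cfsg.Agent.OC2K

open Matrix Cfsg.Agent.Helper28.Sg Cfsg.Agent.Helper28.Spin Cfsg.Agent.Helper12.OrthGen
  Cfsg.Agent.S2614 Cfsg.Agent.S5683P Cfsg.Agent.Helper28.NDM

variable {F : Type*} [Field F] {t k : ℕ} {ι : Type} [Fintype ι] [DecidableEq ι] {Q : QuadraticForm F (ι → F)} [QHyp Q] {D : Fin t → Submodule F (ι → F)}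
  {M : Subgroup (OGq Q)}

/-- **C3**: a non-pure image of a pure singular vector forces a long root element leaving a block -/
theorem CORE.g1 [Fintype F] (h2 : (2 : F) ≠ 0) (hD : HD Q k D)
    (hex : ¬ (Fintype.card F = 3 ∧ k = 3)) (hHM : HS D ≤ M) {v : ι → F} (hv : NPV M D v) :
    G1 M D := by
  by_contra hG1
  exact FIN.false h2 hD hex hHM hG1 hv

/-- the dichotomy for overgroups -/
theorem MAIN.dichotomy [Fintype F] (h2 : (2 : F) ≠ 0) (hm : True) (hD : HD Q k D)
    (hex : ¬ (Fintype.card F = 3 ∧ k = 3)) (hHM : HS D ≤ M) :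
    M ≤ StabO D ∨ S (Q) ≤ M := by
  by_cases h : M ≤ StabO D
  · exact Or.inl h
  · right
    obtain ⟨g, hgM, hgS⟩ := SetLike.not_le_iff_exists.mp h
    obtain ⟨c, u, hu, hu0, hQu, hnp⟩ := STEP0B.exists_nonpure hD hgS
    have hv : NPV M D (mt (Q) g *ᵥ u) :=
      ⟨by rw [Q_isom, hQu], hnp, g, hgM, c, u, hu, hu0, hQu, rfl⟩
    exact FULL.S_le h2 hm hD hHM (CORE.g1 h2 hD hex hHM hv)

end Cfsg.Agent.OC2K
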